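import Mathlib
import Cfsg.Prelude.Def_Sporadic_a

/-!
Double counting in Steiner systems: blocks through a set, intersection numbers with a block.
-/

namespace Cfsg.Lib.Steiner

open Cfsg Finset

variable {α : Type*} [Fintype α] [DecidableEq α] {t k : ℕ} {B : Set (Finset α)}

/-- The blocks as a finset. -/
noncomputable def blocks (B : Set (Finset α)) : Finset (Finset α) := (Set.toFinite B).toFinset

@[simp] theorem mem_blocks {b : Finset α} : b ∈ blocks B ↔ b ∈ B := Set.Finite.mem_toFinset _

/-- Blocks through a set of at most `t` points. -/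
theorem card_blocks_through (hB : IsSteinerSystem t k B) {s : Finset α} (hs : s.card ≤ t) :
    ((blocks B).filter (s ⊆ ·)).card * (k - s.card).choose (t - s.card)
      = (Fintype.card α - s.card).choose (t - s.card) := by
  classical
  have key : ((blocks B).filter (s ⊆ ·)).biUnion (fun b => (b \ s).powersetCard (t - s.card))
      = (sᶜ).powersetCard (t - s.card) := by
    ext u
    simp only [mem_biUnion, mem_filter, mem_blocks, mem_powersetCard]
    constructor
    · rintro ⟨b, -, hu, hc⟩
      refine ⟨fun x hx => mem_compl.mpr (Finset.mem_sdiff.mp (hu hx)).2, hc⟩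
    · rintro ⟨hu, hc⟩
      have hdis : Disjoint s u := Finset.disjoint_left.mpr fun x hxs hxu => mem_compl.mp (hu hxu) hxs
      obtain ⟨b, ⟨hb, hsub⟩, -⟩ := hB.2 (s ∪ u) (by rw [card_union_of_disjoint hdis, hc]; omega)
      refine ⟨b, ⟨hb, (subset_union_left).trans hsub⟩, ?_, hc⟩
      exact fun x hx => Finset.mem_sdiff.mpr ⟨hsub (subset_union_right hx), Finset.disjoint_right.mp hdis hx⟩
  have h := congrArg Finset.card key
  rw [card_biUnion, card_powersetCard, card_compl] at h
  · rw [← h, Finset.sum_congr rfl fun b hb => ?_, Finset.sum_const, smul_eq_mul]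
    simp only [mem_filter, mem_blocks] at hb
    rw [card_powersetCard, card_sdiff_of_subset hb.2, hB.1 b hb.1]
  · intro b hb c hc hbc
    simp only [coe_filter, mem_blocks] at hb hc
    rw [Function.onFun, Finset.disjoint_left]
    intro u hub huc
    simp only [mem_powersetCard] at hub huc
    have hdis : Disjoint s u := Finset.disjoint_left.mpr fun x hxs hxu => (Finset.mem_sdiff.mp (hub.1 hxu)).2 hxs
    refine hbc ((hB.2 (s ∪ u) (by rw [card_union_of_disjoint hdis, hub.2]; omega)).unique ⟨hb.1, ?_⟩ ⟨hc.1, ?_⟩)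
    · exact union_subset hb.2 fun x hx => (Finset.mem_sdiff.mp (hub.1 hx)).1
    · exact union_subset hc.2 fun x hx => (Finset.mem_sdiff.mp (huc.1 hx)).1

theorem ncard_blocks (hB : IsSteinerSystem t k B) :
    B.ncard * k.choose t = (Fintype.card α).choose t := by
  have h := card_blocks_through hB (s := ∅) (by simp)
  simpa [blocks, ← Set.ncard_eq_toFinset_card B] using h

theorem eq_of_le_inter (hB : IsSteinerSystem t k B) {b c : Finset α} (hb : b ∈ B) (hc : c ∈ B)
    (h : t ≤ (b ∩ c).card) : b = c := by
  obtain ⟨s, hs, hsc⟩ := Finset.exists_subset_card_eq h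
  exact (hB.2 s hsc).unique ⟨hb, hs.trans inter_subset_left⟩ ⟨hc, hs.trans inter_subset_right⟩

/-- The `j`-th moment of the intersection sizes with a fixed set. -/
theorem sum_choose_inter (hB : IsSteinerSystem t k B) (b : Finset α) {j : ℕ} (hj : j ≤ t) :
    (∑ c ∈ blocks B, (b ∩ c).card.choose j) * (k - j).choose (t - j)
      = b.card.choose j * (Fintype.card α - j).choose (t - j) := by
  classical
  have h1 : ∀ c ∈ blocks B, (b ∩ c).card.choose j = ((b.powersetCard j).filter (· ⊆ c)).card := by
    intro c _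
    rw [← card_powersetCard]
    congr 1
    ext u; simp [mem_powersetCard, subset_inter_iff]; tauto
  have h2 : ∑ c ∈ blocks B, ((b.powersetCard j).filter (· ⊆ c)).card
      = ∑ u ∈ b.powersetCard j, ((blocks B).filter (u ⊆ ·)).card := by
    simp only [Finset.card_filter]
    exact Finset.sum_comm
  rw [Finset.sum_congr rfl h1, h2, Finset.sum_mul, ← card_powersetCard, ← smul_eq_mul, ← Finset.sum_const]
  refine Finset.sum_congr rfl fun u hu => ?_
  have hu' := (mem_powersetCard.mp hu).2
  have := card_blocks_through hB (s := u) (hu' ▸ hj)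
  rwa [hu'] at this

/-- Number of blocks other than `b` meeting `b` in `i` points. -/
noncomputable def meetCount (B : Set (Finset α)) (b : Finset α) (i : ℕ) : ℕ :=
  (((blocks B).erase b).filter fun c => (b ∩ c).card = i).card

theorem sum_meetCount (hB : IsSteinerSystem t k B) {b : Finset α} (hb : b ∈ B) (j : ℕ) :
    ∑ c ∈ blocks B, (b ∩ c).card.choose j = k.choose j + ∑ i ∈ range t, meetCount B b i * i.choose j := by
  classical
  rw [← Finset.add_sum_erase _ _ (mem_blocks.mpr hb), inter_self, hB.1 b hb]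
  congr 1
  have hmaps : Set.MapsTo (fun c => (b ∩ c).card) ↑((blocks B).erase b) ↑(range t) := by
    intro c hc
    simp only [coe_erase, Set.mem_sdiff, mem_coe, mem_blocks, Set.mem_singleton_iff] at hc
    simp only [coe_range, Set.mem_Iio]
    by_contra h
    exact hc.2 (eq_of_le_inter hB hb hc.1 (Nat.le_of_not_lt h)).symm
  rw [← Finset.sum_fiberwise_of_maps_to hmaps]
  refine Finset.sum_congr rfl fun i _ => ?_
  rw [meetCount, Finset.sum_congr rfl fun c hc => by rw [(mem_filter.mp hc).2], Finset.sum_const, smul_eq_mul]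

/-- The moment equations for the intersection numbers. -/
theorem meet_equation (hB : IsSteinerSystem t k B) {b : Finset α} (hb : b ∈ B) {j : ℕ} (hj : j ≤ t) :
    (k.choose j + ∑ i ∈ range t, meetCount B b i * i.choose j) * (k - j).choose (t - j)
      = k.choose j * (Fintype.card α - j).choose (t - j) := by
  rw [← sum_meetCount hB hb, sum_choose_inter hB b hj, hB.1 b hb]

theorem meetCount_eq_zero {b c : Finset α} (hc : c ∈ B) (hne : c ≠ b) {i : ℕ} (h : meetCount B b i = 0) :
    (b ∩ c).card ≠ i := by
  intro he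
  have : c ∈ ((blocks B).erase b).filter fun c => (b ∩ c).card = i := by simp [hne, hc, he]
  rw [meetCount, card_eq_zero] at h
  rw [h] at this
  simp at this

theorem ncard_meet {b : Finset α} {i : ℕ} (hi : i ≠ b.card) :
    {c : Finset α | c ∈ B ∧ (b ∩ c).card = i}.ncard = meetCount B b i := by
  rw [meetCount, ← Set.ncard_coe_finset]
  congr 1
  ext c
  simp only [coe_filter, mem_erase, mem_blocks, Set.mem_setOf_eq]
  exact ⟨fun h => ⟨⟨fun e => hi (by rw [← h.2, e, inter_self]), h.1⟩, h.2⟩, fun h => ⟨h.1.2, h.2⟩⟩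

theorem meet_s5824 (hα : Fintype.card α = 24) (hB : IsSteinerSystem 5 8 B) {b : Finset α} (hb : b ∈ B) :
    meetCount B b 0 = 30 ∧ meetCount B b 1 = 0 ∧ meetCount B b 2 = 448 ∧ meetCount B b 3 = 0 ∧
      meetCount B b 4 = 280 := by
  have h0 := meet_equation hB hb (j := 0) (by norm_num)
  have h1 := meet_equation hB hb (j := 1) (by norm_num)
  have h2 := meet_equation hB hb (j := 2) (by norm_num)
  have h3 := meet_equation hB hb (j := 3) (by norm_num)
  have h4 := meet_equation hB hb (j := 4) (by norm_num)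
  simp only [hα, sum_range_succ, sum_range_zero] at h0 h1 h2 h3 h4
  norm_num [Nat.choose] at h0 h1 h2 h3 h4
  omega

theorem inter_s5824 (hα : Fintype.card α = 24) (hB : IsSteinerSystem 5 8 B) {b c : Finset α} (hb : b ∈ B)
    (hc : c ∈ B) (hbc : b ≠ c) : (b ∩ c).card = 0 ∨ (b ∩ c).card = 2 ∨ (b ∩ c).card = 4 := by
  obtain ⟨-, e1, -, e3, -⟩ := meet_s5824 hα hB hb
  have := meetCount_eq_zero hc hbc.symm e1
  have := meetCount_eq_zero hc hbc.symm e3
  have : (b ∩ c).card < 5 := by
    by_contra h; exact hbc (eq_of_le_inter hB hb hc (by omega))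
  omega

theorem meet_s4723 (hα : Fintype.card α = 23) (hB : IsSteinerSystem 4 7 B) {b : Finset α} (hb : b ∈ B) :
    meetCount B b 0 = 0 ∧ meetCount B b 1 = 112 ∧ meetCount B b 2 = 0 ∧ meetCount B b 3 = 140 := by
  have h0 := meet_equation hB hb (j := 0) (by norm_num)
  have h1 := meet_equation hB hb (j := 1) (by norm_num)
  have h2 := meet_equation hB hb (j := 2) (by norm_num)
  have h3 := meet_equation hB hb (j := 3) (by norm_num)
  simp only [hα, sum_range_succ, sum_range_zero] at h0 h1 h2 h3
  norm_num [Nat.choose] at h0 h1 h2 h3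
  omega

theorem meet_s3622 (hα : Fintype.card α = 22) (hB : IsSteinerSystem 3 6 B) {b : Finset α} (hb : b ∈ B) :
    meetCount B b 0 = 16 ∧ meetCount B b 1 = 0 ∧ meetCount B b 2 = 60 := by
  have h0 := meet_equation hB hb (j := 0) (by norm_num)
  have h1 := meet_equation hB hb (j := 1) (by norm_num)
  have h2 := meet_equation hB hb (j := 2) (by norm_num)
  simp only [hα, sum_range_succ, sum_range_zero] at h0 h1 h2
  norm_num [Nat.choose] at h0 h1 h2
  omega

theorem meet_s5612 (hα : Fintype.card α = 12) (hB : IsSteinerSystem 5 6 B) {b : Finset α} (hb : b ∈ B) :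
    meetCount B b 0 = 1 ∧ meetCount B b 1 = 0 ∧ meetCount B b 2 = 45 ∧ meetCount B b 3 = 40 ∧
      meetCount B b 4 = 45 := by
  have h0 := meet_equation hB hb (j := 0) (by norm_num)
  have h1 := meet_equation hB hb (j := 1) (by norm_num)
  have h2 := meet_equation hB hb (j := 2) (by norm_num)
  have h3 := meet_equation hB hb (j := 3) (by norm_num)
  have h4 := meet_equation hB hb (j := 4) (by norm_num)
  simp only [hα, sum_range_succ, sum_range_zero] at h0 h1 h2 h3 h4
  norm_num [Nat.choose] at h0 h1 h2 h3 h4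
  omega

theorem compl_mem_s5612 (hα : Fintype.card α = 12) (hB : IsSteinerSystem 5 6 B) {b : Finset α} (hb : b ∈ B) :
    bᶜ ∈ B := by
  obtain ⟨e0, -⟩ := meet_s5612 hα hB hb
  rw [meetCount, card_eq_one] at e0
  obtain ⟨c, hc⟩ := e0
  have : c ∈ ((blocks B).erase b).filter fun c => (b ∩ c).card = 0 := by rw [hc]; exact mem_singleton_self c
  simp only [mem_filter, mem_erase, mem_blocks, card_eq_zero] at this
  have hcb : c = bᶜ := by
    refine eq_of_subset_of_card_le (fun x hx => mem_compl.mpr fun hxb => ?_) ?_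
    · exact Finset.notMem_empty x (this.2 ▸ mem_inter.mpr ⟨hxb, hx⟩)
    · rw [card_compl, hα, hB.1 b hb, hB.1 c this.1.2]
  exact hcb ▸ this.1.2

end Cfsg.Lib.Steiner
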