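import Mathlib
import Cfsg.Prelude.Def_Sporadic_a
import Cfsg.Agent.Steiner.Counting

/-!
The projective plane of order four (Steiner system S(2, 5, 21)).

A 4-arc lies in exactly one hyperoval (the other two points are those off the six secants).  Given a
hyperoval, the points off it correspond to the 15 synthemes of its six points and the six external
lines to the six synthematic totals, so the plane is determined by a labelled hyperoval.
-/

namespace Cfsg.Lib.PlaneFour

open Cfsg Finset Cfsg.Lib.Steiner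
open scoped Pointwise

/-- Points of the model: six points of the hyperoval and the fifteen synthemes. -/
abbrev Pt : Type := Fin 6 ⊕ Fin 15

/-- The fifteen synthemes, as fixed-point-free involutions of six points. -/
def syn : Fin 15 → Fin 6 → Fin 6 :=
  ![![1, 0, 3, 2, 5, 4], ![1, 0, 4, 5, 2, 3], ![1, 0, 5, 4, 3, 2], ![2, 3, 0, 1, 5, 4],
    ![2, 4, 0, 5, 1, 3], ![2, 5, 0, 4, 3, 1], ![3, 2, 1, 0, 5, 4], ![3, 4, 5, 0, 1, 2],
    ![3, 5, 4, 0, 2, 1], ![4, 2, 1, 5, 0, 3], ![4, 3, 5, 1, 0, 2], ![4, 5, 3, 2, 0, 1],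
    ![5, 2, 1, 4, 3, 0], ![5, 3, 4, 1, 2, 0], ![5, 4, 3, 2, 1, 0]]

/-- The model secant through two points of the hyperoval. -/
def secSet (x y : Fin 6) : Finset Pt :=
  {Sum.inl x, Sum.inl y} ∪ ((univ : Finset (Fin 15)).filter fun j => syn j x = y).map ⟨Sum.inr, Sum.inr_injective⟩

/-- The six synthematic totals. -/
def totals : Finset (Finset (Fin 15)) :=
  ((univ : Finset (Fin 15)).powersetCard 5).filter
    fun T => ∀ i ∈ T, ∀ j ∈ T, i ≠ j → ∀ x, syn i x ≠ syn j x

/-- The lines of the model. -/
def model : Finset (Finset Pt) :=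
  (((univ : Finset (Fin 6 × Fin 6)).filter fun p => p.1 < p.2).image fun p => secSet p.1 p.2) ∪
    totals.map ⟨fun T => T.map ⟨Sum.inr, Sum.inr_injective⟩, Finset.map_injective _⟩

theorem card_totals : totals.card = 6 := by decide +kernel

theorem card_model : model.card ≤ 21 := by
  refine le_trans (card_union_le _ _) ?_
  rw [card_map, card_totals]
  have h : ((univ : Finset (Fin 6 × Fin 6)).filter fun p => p.1 < p.2).card = 15 := by decide
  have := card_image_le (s := (univ : Finset (Fin 6 × Fin 6)).filter fun p => p.1 < p.2)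
    (f := fun p => secSet p.1 p.2)
  omega

theorem secSet_comm : ∀ x y : Fin 6, x ≠ y → secSet x y = secSet y x := by decide +kernel

theorem secSet_mem {x y : Fin 6} (h : x ≠ y) : secSet x y ∈ model := by
  refine mem_union_left _ (mem_image.mpr ?_)
  rcases lt_or_gt_of_ne h with h' | h'
  · exact ⟨(x, y), by simp [h'], rfl⟩
  · exact ⟨(y, x), by simp [h'], (secSet_comm x y h).symm⟩

theorem syn_all : ∀ f : Equiv.Perm (Fin 6), (∀ x, f x ≠ x) → (∀ x, f (f x) = x) →
    ∃ j, ∀ x, syn j x = f x := by decide +kernel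

section Plane

variable {α : Type*} [Fintype α] [DecidableEq α] {L : Set (Finset α)}

/-- A set of points meeting no line more than twice. -/
def IsArc (L : Set (Finset α)) (H : Finset α) : Prop := ∀ l ∈ L, (l ∩ H).card ≤ 2

open scoped Classical in
/-- The line through two points. -/
noncomputable def line (L : Set (Finset α)) (x y : α) : Finset α :=
  if h : ∃ b ∈ L, {x, y} ⊆ b then h.choose else ∅

variable (hα : Fintype.card α = 21) (hL : IsSteinerSystem 2 5 L)
include hα hL

omit hα in
theorem exists_line {x y : α} (h : x ≠ y) : ∃ b ∈ L, {x, y} ⊆ b := by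
  obtain ⟨b, hb, -⟩ := hL.2 {x, y} (card_pair h)
  exact ⟨b, hb.1, hb.2⟩

omit hα in
theorem line_mem {x y : α} (h : x ≠ y) : line L x y ∈ L := by
  rw [line, dif_pos (exists_line hL h)]
  exact (exists_line hL h).choose_spec.1

omit hα in
theorem line_left {x y : α} (h : x ≠ y) : x ∈ line L x y := by
  rw [line, dif_pos (exists_line hL h)]
  exact (exists_line hL h).choose_spec.2 (by simp)

omit hα in
theorem line_right {x y : α} (h : x ≠ y) : y ∈ line L x y := by
  rw [line, dif_pos (exists_line hL h)]
  exact (exists_line hL h).choose_spec.2 (by simp)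

omit hα in
theorem line_unique {x y : α} (h : x ≠ y) {l : Finset α} (hl : l ∈ L) (hx : x ∈ l) (hy : y ∈ l) :
    l = line L x y :=
  (hL.2 {x, y} (card_pair h)).unique ⟨hl, by simp [insert_subset_iff, hx, hy]⟩
    ⟨line_mem hL h, by simp [insert_subset_iff, line_left hL h, line_right hL h]⟩

omit hα in
theorem eq_of_two {l m : Finset α} (hl : l ∈ L) (hm : m ∈ L) {x y : α} (h : x ≠ y)
    (hxl : x ∈ l) (hyl : y ∈ l) (hxm : x ∈ m) (hym : y ∈ m) : l = m :=
  (line_unique hL h hl hxl hyl).trans (line_unique hL h hm hxm hym).symm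

theorem card_through (x : α) : ((blocks L).filter fun l => x ∈ l).card = 5 := by
  have h := card_blocks_through hL (s := {x}) (by simp)
  simp [hα] at h
  omega

theorem card_lines : (blocks L).card = 21 := by
  have h := ncard_blocks hL
  rw [hα] at h
  have e : (blocks L).card = L.ncard := by rw [blocks, Set.ncard_eq_toFinset_card L]
  have e1 : Nat.choose 5 2 = 10 := rfl
  have e2 : Nat.choose 21 2 = 210 := rfl
  rw [e1, e2] at h
  omega

omit hα in
theorem card_line {l : Finset α} (hl : l ∈ L) : l.card = 5 := hL.1 l hl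

omit hα in
theorem inter_card_le {l m : Finset α} (hl : l ∈ L) (hm : m ∈ L) (hne : l ≠ m) :
    (l ∩ m).card ≤ 1 := by
  by_contra h
  exact hne (eq_of_le_inter hL hl hm (by omega))

theorem meet {l m : Finset α} (hl : l ∈ L) (hm : m ∈ L) : ∃ p, p ∈ l ∧ p ∈ m := by
  classical
  obtain ⟨x, hxm⟩ : ∃ x, x ∈ m := card_pos.mp (by rw [card_line hL hm]; norm_num)
  by_cases hxl : x ∈ l
  · exact ⟨x, hxl, hxm⟩
  have hsub : l.image (fun p => line L x p) ⊆ (blocks L).filter fun b => x ∈ b := by
    intro b hb
    obtain ⟨p, hp, rfl⟩ := mem_image.mp hb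
    have hne : x ≠ p := fun e => hxl (e ▸ hp)
    simp [line_mem hL hne, line_left hL hne]
  have hinj : Set.InjOn (fun p => line L x p) l := by
    intro p hp q hq hpq
    by_contra hne
    have hxp : x ≠ p := fun e => hxl (e ▸ hp)
    have hxq : x ≠ q := fun e => hxl (e ▸ hq)
    have e := eq_of_two hL hl (line_mem hL hxp) hne hp hq (line_right hL hxp)
      (by simp only at hpq; rw [hpq]; exact line_right hL hxq)
    exact hxl (e ▸ line_left hL hxp)
  have heq := eq_of_subset_of_card_le hsub
    (by rw [card_through hα hL, card_image_of_injOn hinj, card_line hL hl])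
  have : m ∈ (blocks L).filter fun b => x ∈ b := by simp [hm, hxm]
  rw [← heq] at this
  obtain ⟨p, hp, rfl⟩ := mem_image.mp this
  exact ⟨p, hp, line_right hL (fun e : x = p => hxl (e ▸ hp))⟩

theorem inter_card {l m : Finset α} (hl : l ∈ L) (hm : m ∈ L) (hne : l ≠ m) :
    (l ∩ m).card = 1 := by
  obtain ⟨p, hp⟩ := meet hα hL hl hm
  exact le_antisymm (inter_card_le hL hl hm hne) (card_pos.mpr ⟨p, mem_inter.mpr hp⟩)

omit hα hL in
theorem arc_subset {H S : Finset α} (hH : IsArc L H) (hS : S ⊆ H) : IsArc L S :=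
  fun l hl => le_trans (card_le_card (inter_subset_inter subset_rfl hS)) (hH l hl)

omit hα hL in
theorem arc_three {H : Finset α} (hH : IsArc L H) {l : Finset α} (hl : l ∈ L) {x y z : α}
    (hx : x ∈ l) (hy : y ∈ l) (hz : z ∈ l) (hxH : x ∈ H) (hyH : y ∈ H) (hzH : z ∈ H)
    (hxy : x ≠ y) (hxz : x ≠ z) (hyz : y ≠ z) : False := by
  have h1 : ({x, y, z} : Finset α) ⊆ l ∩ H := by
    simp [insert_subset_iff, hx, hy, hz, hxH, hyH, hzH]
  have h2 : ({x, y, z} : Finset α).card = 3 := by
    rw [card_insert_of_notMem (by simp [hxy, hxz]), card_pair hyz]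
  have := card_le_card h1
  have := hH l hl
  omega

/-! ### Counting 4-arcs -/

/-- The three points are not collinear. -/
def IsTri (L : Set (Finset α)) (T : Finset α) : Prop := T.card = 3 ∧ ∀ l ∈ L, ¬ T ⊆ l

open scoped Classical in
/-- The triangles. -/
noncomputable def triangles (L : Set (Finset α)) : Finset (Finset α) :=
  (univ : Finset (Finset α)).filter (IsTri L)

open scoped Classical in
/-- The arcs of a given size. -/
noncomputable def arcs (L : Set (Finset α)) (k : ℕ) : Finset (Finset α) :=
  (univ : Finset (Finset α)).filter fun S => S.card = k ∧ IsArc L S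

omit hα hL in
theorem mem_arcs {k : ℕ} {S : Finset α} : S ∈ arcs L k ↔ S.card = k ∧ IsArc L S := by
  simp [arcs]

theorem card_triangles : (triangles L).card = 1120 := by
  classical
  have hsplit : (univ : Finset α).powersetCard 3
      = triangles L ∪ (blocks L).biUnion fun l => l.powersetCard 3 := by
    ext T
    simp only [mem_powersetCard, subset_univ, true_and, mem_union, mem_biUnion, triangles,
      mem_filter, mem_univ, IsTri, mem_blocks]
    constructor
    · intro h
      by_cases hT : ∃ l ∈ L, T ⊆ l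
      · obtain ⟨l, hl, hTl⟩ := hT
        exact Or.inr ⟨l, hl, hTl, h⟩
      · exact Or.inl ⟨h, fun l hl hTl => hT ⟨l, hl, hTl⟩⟩
    · rintro (⟨h, -⟩ | ⟨l, -, -, h⟩) <;> exact h
  have hdis : Disjoint (triangles L) ((blocks L).biUnion fun l => l.powersetCard 3) := by
    rw [Finset.disjoint_left]
    intro T hT h
    simp only [triangles, mem_filter, IsTri] at hT
    obtain ⟨l, hl, hTl⟩ := mem_biUnion.mp h
    exact hT.2.2 l (mem_blocks.mp hl) (mem_powersetCard.mp hTl).1
  have hc := congrArg Finset.card hsplit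
  rw [card_union_of_disjoint hdis, card_powersetCard, card_univ, hα, card_biUnion] at hc
  · rw [Finset.sum_congr rfl fun l hl => ?_, Finset.sum_const, card_lines hα hL, smul_eq_mul] at hc
    pick_goal 2
    · rw [card_powersetCard, card_line hL (mem_blocks.mp hl)]
    have e1 : Nat.choose 5 3 = 10 := rfl
    have e2 : Nat.choose 21 3 = 1330 := rfl
    rw [e1, e2] at hc
    omega
  · intro l hl m hm hne
    rw [Function.onFun, Finset.disjoint_left]
    intro T hTl hTm
    rw [mem_powersetCard] at hTl hTm
    have h3 := card_le_card (subset_inter hTl.1 hTm.1)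
    have := inter_card_le hL (mem_blocks.mp hl) (mem_blocks.mp hm) hne
    omega

theorem card_extensions {T : Finset α} (hT : IsTri L T) :
    ((arcs L 4).filter fun S => T ⊆ S).card = 9 := by
  classical
  obtain ⟨hT3, hTl⟩ := hT
  obtain ⟨a, b, c, hab, hac, hbc, rfl⟩ := card_eq_three.mp hT3
  have hnl : ∀ l ∈ L, a ∈ l → b ∈ l → c ∈ l → False := fun l hl ha hb hc =>
    hTl l hl (by simp [insert_subset_iff, ha, hb, hc])
  set U := line L a b ∪ line L a c ∪ line L b c with hU
  have hne1 : line L a b ≠ line L a c := fun e =>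
    hnl _ (line_mem hL hab) (line_left hL hab) (line_right hL hab) (e ▸ line_right hL hac)
  have hne2 : line L a b ≠ line L b c := fun e =>
    hnl _ (line_mem hL hab) (line_left hL hab) (line_right hL hab) (e ▸ line_right hL hbc)
  have hne3 : line L a c ≠ line L b c := fun e =>
    hnl _ (line_mem hL hac) (line_left hL hac) (e ▸ line_left hL hbc) (line_right hL hac)
  have h12 : (line L a b ∪ line L a c).card = 9 := by
    have := card_union_add_card_inter (line L a b) (line L a c)
    rw [card_line hL (line_mem hL hab), card_line hL (line_mem hL hac),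
      inter_card hα hL (line_mem hL hab) (line_mem hL hac) hne1] at this
    omega
  have h3 : ((line L a b ∪ line L a c) ∩ line L b c).card = 2 := by
    have e : (line L a b ∪ line L a c) ∩ line L b c = {b, c} := by
      ext p
      simp only [mem_inter, mem_union, mem_insert, mem_singleton]
      constructor
      · rintro ⟨hp | hp, hp'⟩
        · left
          by_contra hpb
          exact hne2 (eq_of_two hL (line_mem hL hab) (line_mem hL hbc) hpb hp
            (line_right hL hab) hp' (line_left hL hbc))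
        · right
          by_contra hpc
          exact hne3 (eq_of_two hL (line_mem hL hac) (line_mem hL hbc) hpc hp
            (line_right hL hac) hp' (line_right hL hbc))
      · rintro (rfl | rfl)
        · exact ⟨Or.inl (line_right hL hab), line_left hL hbc⟩
        · exact ⟨Or.inr (line_right hL hac), line_right hL hbc⟩
    rw [e, card_pair hbc]
  have hUc : U.card = 12 := by
    have := card_union_add_card_inter (line L a b ∪ line L a c) (line L b c)
    rw [h12, h3, card_line hL (line_mem hL hbc), ← hU] at this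
    omega
  have haU : a ∈ U := by simp [hU, line_left hL hab]
  have hbU : b ∈ U := by simp [hU, line_right hL hab]
  have hcU : c ∈ U := by simp [hU, line_right hL hac]
  have e : (arcs L 4).filter (fun S => {a, b, c} ⊆ S) = Uᶜ.image (fun d => insert d {a, b, c}) := by
    ext S
    simp only [mem_filter, mem_arcs, mem_image, mem_compl]
    constructor
    · rintro ⟨⟨h4, hA⟩, hsub⟩
      have h1 : (S \ {a, b, c}).card = 1 := by rw [card_sdiff_of_subset hsub, h4, hT3]
      obtain ⟨d, hd⟩ := card_eq_one.mp h1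
      have hd' : d ∈ S \ {a, b, c} := hd ▸ mem_singleton_self d
      obtain ⟨hdS, hdT⟩ := Finset.mem_sdiff.mp hd'
      simp only [mem_insert, mem_singleton, not_or] at hdT
      obtain ⟨hda, hdb, hdc⟩ := hdT
      refine ⟨d, ?_, ?_⟩
      · have haS : a ∈ S := hsub (by simp)
        have hbS : b ∈ S := hsub (by simp)
        have hcS : c ∈ S := hsub (by simp)
        simp only [hU, mem_union, not_or]
        exact ⟨⟨fun h => arc_three hA (line_mem hL hab) (line_left hL hab) (line_right hL hab) h
            haS hbS hdS hab (Ne.symm hda) (Ne.symm hdb),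
          fun h => arc_three hA (line_mem hL hac) (line_left hL hac) (line_right hL hac) h
            haS hcS hdS hac (Ne.symm hda) (Ne.symm hdc)⟩,
          fun h => arc_three hA (line_mem hL hbc) (line_left hL hbc) (line_right hL hbc) h
            hbS hcS hdS hbc (Ne.symm hdb) (Ne.symm hdc)⟩
      · rw [← union_sdiff_of_subset hsub, hd, union_comm, singleton_union]
    · rintro ⟨d, hd, rfl⟩
      have hdT : d ∉ ({a, b, c} : Finset α) := fun h =>
        hd ((insert_subset_iff.mpr ⟨haU, insert_subset_iff.mpr ⟨hbU, singleton_subset_iff.mpr hcU⟩⟩) h)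
      refine ⟨⟨by rw [card_insert_of_notMem hdT, hT3], fun l hl => ?_⟩, subset_insert _ _⟩
      by_contra h
      have hcase : (l ∩ ({a, b, c} : Finset α)).card ≤ 2 := by
        by_contra h'
        have h'' : l ∩ {a, b, c} = {a, b, c} :=
          eq_of_subset_of_card_le inter_subset_right (by rw [hT3]; omega)
        exact hTl l hl (h'' ▸ inter_subset_left)
      by_cases hdl : d ∈ l
      · rw [inter_insert_of_mem hdl] at h
        have h2 : 1 < (l ∩ ({a, b, c} : Finset α)).card := by
          have := card_insert_le d (l ∩ ({a, b, c} : Finset α))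
          omega
        obtain ⟨x, hx, y, hy, hxy⟩ := one_lt_card.mp h2
        simp only [mem_inter, mem_insert, mem_singleton] at hx hy
        refine hd ?_
        rw [line_unique hL hxy hl hx.1 hy.1] at hdl
        simp only [hU, mem_union]
        obtain ⟨-, rfl | rfl | rfl⟩ := hx <;> obtain ⟨-, rfl | rfl | rfl⟩ := hy
        · exact absurd rfl hxy
        · exact Or.inl (Or.inl hdl)
        · exact Or.inl (Or.inr hdl)
        · rw [← line_unique hL hab (line_mem hL hxy) (line_right hL hxy) (line_left hL hxy)]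
          exact Or.inl (Or.inl hdl)
        · exact absurd rfl hxy
        · exact Or.inr hdl
        · rw [← line_unique hL hac (line_mem hL hxy) (line_right hL hxy) (line_left hL hxy)]
          exact Or.inl (Or.inr hdl)
        · rw [← line_unique hL hbc (line_mem hL hxy) (line_right hL hxy) (line_left hL hxy)]
          exact Or.inr hdl
        · exact absurd rfl hxy
      · rw [inter_insert_of_notMem hdl] at h
        exact h hcase
  rw [e, card_image_of_injOn, card_compl, hα, hUc]
  intro d hd d' hd' h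
  simp only [coe_compl, Set.mem_compl_iff, mem_coe] at hd hd'
  have h' : insert d ({a, b, c} : Finset α) = insert d' {a, b, c} := h
  have hdm : d ∈ insert d' ({a, b, c} : Finset α) := h' ▸ mem_insert_self _ _
  simp only [mem_insert, mem_singleton] at hdm
  rcases hdm with rfl | rfl | rfl | rfl
  · rfl
  · exact absurd haU hd
  · exact absurd hbU hd
  · exact absurd hcU hd

theorem card_arcs_four : (arcs L 4).card = 2520 := by
  classical
  have h := sum_card_bipartiteAbove_eq_sum_card_bipartiteBelow (fun T S => T ⊆ S)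
    (s := triangles L) (t := arcs L 4)
  have hR : ∀ T ∈ triangles L, ((arcs L 4).filter fun S => T ⊆ S).card = 9 := fun T hT =>
    card_extensions hα hL (mem_filter.mp hT).2
  have hC : ∀ S ∈ arcs L 4, ((triangles L).filter fun T => T ⊆ S).card = 4 := fun S hS => by
    obtain ⟨h4, hA⟩ := mem_arcs.mp hS
    have : (triangles L).filter (fun T => T ⊆ S) = S.powersetCard 3 := by
      ext T
      simp only [triangles, mem_filter, mem_univ, true_and, mem_powersetCard, IsTri]
      refine ⟨fun ⟨⟨h3, _⟩, hTS⟩ => ⟨hTS, h3⟩, fun ⟨hTS, h3⟩ => ⟨⟨h3, fun l hl hTl => ?_⟩, hTS⟩⟩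
      have := card_le_card (subset_inter hTl hTS)
      have := hA l hl
      omega
    rw [this, card_powersetCard, h4]
    rfl
  simp only [bipartiteAbove, bipartiteBelow] at h
  rw [Finset.sum_congr rfl hR, Finset.sum_const, card_triangles hα hL, smul_eq_mul,
    Finset.sum_congr rfl hC, Finset.sum_const, smul_eq_mul] at h
  omega

/-! ### The hyperoval through a 4-arc -/

open scoped Classical in
/-- The points off all secants of a set. -/
noncomputable def offPts (L : Set (Finset α)) (S : Finset α) : Finset α :=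
  (univ : Finset α).filter fun p => p ∉ S ∧ ∀ x ∈ S, ∀ y ∈ S, x ≠ y → p ∉ line L x y

theorem unique_off_on_line {S : Finset α} (h4 : S.card = 4) (hS : IsArc L S) {a : α} (ha : a ∈ S)
    {l : Finset α} (hl : l ∈ L) (hal : a ∈ l) (hother : ∀ x ∈ S, x ∈ l → x = a) :
    (l ∩ offPts L S).card = 1 := by
  classical
  have h1 : (S.erase a).card = 3 := by rw [card_erase_of_mem ha, h4]
  obtain ⟨b, c, d, hbc, hbd, hcd, he⟩ := card_eq_three.mp h1
  have hb : b ∈ S.erase a := by rw [he]; simp
  have hc : c ∈ S.erase a := by rw [he]; simp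
  have hd : d ∈ S.erase a := by rw [he]; simp
  rw [mem_erase] at hb hc hd
  have hbl : b ∉ l := fun h => hb.1 (hother b hb.2 h)
  have hcl : c ∉ l := fun h => hc.1 (hother c hc.2 h)
  have hdl : d ∉ l := fun h => hd.1 (hother d hd.2 h)
  have hSe : ∀ x ∈ S, x = a ∨ x = b ∨ x = c ∨ x = d := by
    intro x hx
    by_cases hxa : x = a
    · exact Or.inl hxa
    · have : x ∈ S.erase a := mem_erase.mpr ⟨hxa, hx⟩
      rw [he] at this
      simp only [mem_insert, mem_singleton] at this
      exact Or.inr this
  obtain ⟨P, hPl, hP⟩ := meet hα hL hl (line_mem hL hbc)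
  obtain ⟨Q, hQl, hQ⟩ := meet hα hL hl (line_mem hL hbd)
  obtain ⟨R, hRl, hR⟩ := meet hα hL hl (line_mem hL hcd)
  have hna : ∀ {x y : α} (_ : x ≠ y), x ∈ S → y ∈ S → x ≠ a → y ≠ a → a ∉ line L x y :=
    fun {x y} hxy hx hy hxa hya h => arc_three hS (line_mem hL hxy) (line_left hL hxy)
      (line_right hL hxy) h hx hy ha hxy hxa hya
  have hPa : P ≠ a := fun e => hna hbc hb.2 hc.2 hb.1 hc.1 (e ▸ hP)
  have hQa : Q ≠ a := fun e => hna hbd hb.2 hd.2 hb.1 hd.1 (e ▸ hQ)
  have hRa : R ≠ a := fun e => hna hcd hc.2 hd.2 hc.1 hd.1 (e ▸ hR)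
  have hdiff : ∀ {x y z : α} (hxy : x ≠ y) (hxz : x ≠ z), y ≠ z → x ∈ S → y ∈ S → z ∈ S →
      line L x y ≠ line L x z := fun {x y z} hxy hxz hyz hx hy hz e =>
    arc_three hS (line_mem hL hxy) (line_left hL hxy) (line_right hL hxy) (e ▸ line_right hL hxz)
      hx hy hz hxy hxz hyz
  have hPQ : P ≠ Q := by
    intro e
    refine hdiff hbc hbd hcd hb.2 hc.2 hd.2 (eq_of_two hL (line_mem hL hbc) (line_mem hL hbd)
      (x := b) (y := P) (fun e' => hbl (e' ▸ hPl)) (line_left hL hbc) hP (line_left hL hbd) (e ▸ hQ))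
  have hPR : P ≠ R := by
    intro e
    have h' : line L b c = line L c d := eq_of_two hL (line_mem hL hbc) (line_mem hL hcd)
      (x := c) (y := P) (fun e' => hcl (e' ▸ hPl)) (line_right hL hbc) hP (line_left hL hcd) (e ▸ hR)
    exact arc_three hS (line_mem hL hbc) (line_left hL hbc) (line_right hL hbc)
      (h' ▸ line_right hL hcd) hb.2 hc.2 hd.2 hbc hbd hcd
  have hQR : Q ≠ R := by
    intro e
    have h' : line L b d = line L c d := eq_of_two hL (line_mem hL hbd) (line_mem hL hcd)
      (x := d) (y := Q) (fun e' => hdl (e' ▸ hQl)) (line_right hL hbd) hQ (line_right hL hcd) (e ▸ hR)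
    exact arc_three hS (line_mem hL hbd) (line_left hL hbd) (h' ▸ line_left hL hcd)
      (line_right hL hbd) hb.2 hc.2 hd.2 hbc hbd hcd
  have e : l ∩ offPts L S = l \ {a, P, Q, R} := by
    ext p
    simp only [offPts, mem_inter, mem_filter, mem_univ, true_and, Finset.mem_sdiff, mem_insert,
      mem_singleton, not_or]
    constructor
    · rintro ⟨hpl, hpS, hp⟩
      exact ⟨hpl, fun e => hpS (e ▸ ha), fun e => hp b hb.2 c hc.2 hbc (e ▸ hP),
        fun e => hp b hb.2 d hd.2 hbd (e ▸ hQ), fun e => hp c hc.2 d hd.2 hcd (e ▸ hR)⟩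
    · rintro ⟨hpl, hpa, hpP, hpQ, hpR⟩
      refine ⟨hpl, fun hpS => hpa (hother p hpS hpl), fun x hx y hy hxy hp => ?_⟩
      by_cases hxa : x = a
      · subst hxa
        have := eq_of_two hL hl (line_mem hL hxy) hpa hpl hal hp (line_left hL hxy)
        exact hxy (hother y hy (this ▸ line_right hL hxy)).symm
      by_cases hya : y = a
      · subst hya
        have := eq_of_two hL hl (line_mem hL hxy) hpa hpl hal hp (line_right hL hxy)
        exact hxa (hother x hx (this ▸ line_left hL hxy))
      have hK : ∀ {u v z : α} (huv : u ≠ v), z ∈ l → z ∈ line L u v → u ∉ l → p ≠ z →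
          p ∉ line L u v := fun {u v z} huv hzl hz hu hpz h =>
        hu ((eq_of_two hL hl (line_mem hL huv) hpz hpl hzl h hz) ▸ line_left hL huv)
      have hcomm : ∀ {u v : α} (huv : u ≠ v), line L v u = line L u v := fun {u v} huv =>
        line_unique hL huv (line_mem hL huv.symm) (line_right hL huv.symm) (line_left hL huv.symm)
      rcases hSe x hx with h | rfl | rfl | rfl <;> rcases hSe y hy with h' | rfl | rfl | rfl
      all_goals try (first | exact hxa h | exact hya h' | exact hxy rfl)
      · exact hK hbc hPl hP hbl hpP hp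
      · exact hK hbd hQl hQ hbl hpQ hp
      · exact hK hbc hPl hP hbl hpP (hcomm hbc ▸ hp)
      · exact hK hcd hRl hR hcl hpR hp
      · exact hK hbd hQl hQ hbl hpQ (hcomm hbd ▸ hp)
      · exact hK hcd hRl hR hcl hpR (hcomm hcd ▸ hp)
  rw [e, card_sdiff_of_subset, card_line hL hl]
  · rw [card_insert_of_notMem (by simp [Ne.symm hPa, Ne.symm hQa, Ne.symm hRa]),
      card_insert_of_notMem (by simp [hPQ, hPR]), card_pair hQR]
  · simp [insert_subset_iff, hal, hPl, hQl, hRl]

theorem card_tangents {S : Finset α} (h4 : S.card = 4) (hS : IsArc L S) {a : α} (ha : a ∈ S) :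
    ((blocks L).filter fun l => a ∈ l ∧ ∀ x ∈ S, x ∈ l → x = a).card = 2 := by
  classical
  have hsec : ((blocks L).filter fun l => a ∈ l ∧ ¬ ∀ x ∈ S, x ∈ l → x = a)
      = (S.erase a).image (line L a) := by
    ext l
    simp only [mem_filter, mem_blocks, mem_image, mem_erase]
    constructor
    · rintro ⟨hl, hal, hn⟩
      push Not at hn
      obtain ⟨x, hx, hxl, hxa⟩ := hn
      exact ⟨x, ⟨hxa, hx⟩, (line_unique hL (Ne.symm hxa) hl hal hxl).symm⟩
    · rintro ⟨x, ⟨hxa, hx⟩, rfl⟩
      exact ⟨line_mem hL (Ne.symm hxa), line_left hL (Ne.symm hxa),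
        fun h => hxa (h x hx (line_right hL (Ne.symm hxa)))⟩
  have h3 : ((S.erase a).image (line L a)).card = 3 := by
    rw [card_image_of_injOn, card_erase_of_mem ha, h4]
    intro x hx y hy hxy
    rw [mem_coe, mem_erase] at hx hy
    by_contra hne
    exact arc_three hS (line_mem hL (Ne.symm hx.1)) (line_left hL (Ne.symm hx.1))
      (line_right hL (Ne.symm hx.1)) (hxy ▸ line_right hL (Ne.symm hy.1)) ha hx.2 hy.2
      (Ne.symm hx.1) (Ne.symm hy.1) hne
  have hsum := Finset.card_filter_add_card_filter_not (s := (blocks L).filter fun l => a ∈ l)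
    (fun l => ∀ x ∈ S, x ∈ l → x = a)
  rw [filter_filter, filter_filter, hsec, h3, card_through hα hL] at hsum
  omega

theorem card_offPts {S : Finset α} (h4 : S.card = 4) (hS : IsArc L S) : (offPts L S).card = 2 := by
  classical
  obtain ⟨a, ha⟩ := card_pos.mp (by omega : 0 < S.card)
  set Tg := (blocks L).filter fun l => a ∈ l ∧ ∀ x ∈ S, x ∈ l → x = a with hTg
  have hone : ∀ l ∈ Tg, (l ∩ offPts L S).card = 1 := fun l hl => by
    simp only [hTg, mem_filter, mem_blocks] at hl
    exact unique_off_on_line hα hL h4 hS ha hl.1 hl.2.1 hl.2.2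
  have e : offPts L S = Tg.biUnion fun l => l ∩ offPts L S := by
    ext p
    simp only [mem_biUnion, mem_inter]
    refine ⟨fun hp => ?_, fun ⟨_, _, _, hp⟩ => hp⟩
    have hp' := (mem_filter.mp hp).2
    have hne : a ≠ p := fun e => hp'.1 (e ▸ ha)
    refine ⟨line L a p, ?_, line_right hL hne, hp⟩
    simp only [hTg, mem_filter, mem_blocks]
    refine ⟨line_mem hL hne, line_left hL hne, fun x hx hxl => ?_⟩
    by_contra hxa
    have := line_unique hL (Ne.symm hxa) (line_mem hL hne) (line_left hL hne) hxl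
    exact hp'.2 a ha x hx (Ne.symm hxa) (this ▸ line_right hL hne)
  rw [e, card_biUnion, Finset.sum_congr rfl hone, Finset.sum_const, card_tangents hα hL h4 hS ha,
    smul_eq_mul, mul_one]
  intro l hl m hm hne
  rw [Function.onFun, Finset.disjoint_left]
  intro p hpl hpm
  simp only [coe_filter, Set.mem_ofPred_eq, hTg, mem_blocks] at hl hm
  rw [mem_inter] at hpl hpm
  have hpa : p ≠ a := fun e => (mem_filter.mp hpl.2).2.1 (e ▸ ha)
  exact hne (eq_of_two hL hl.1 hm.1 hpa hpl.1 hl.2.1 hpm.1 hm.2.1)

theorem hyperoval_unique {S : Finset α} (h4 : S.card = 4) (hS : IsArc L S) :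
    ∃! H : Finset α, (H.card = 6 ∧ IsArc L H) ∧ S ⊆ H := by
  classical
  have hd : Disjoint S (offPts L S) := by
    rw [Finset.disjoint_left]; intro x hx hx'; exact (mem_filter.mp hx').2.1 hx
  have h6 : (S ∪ offPts L S).card = 6 := by
    rw [card_union_of_disjoint hd, h4, card_offPts hα hL h4 hS]
  refine ⟨S ∪ offPts L S, ⟨⟨h6, fun l hl => ?_⟩, subset_union_left⟩, ?_⟩
  · rw [inter_union_distrib_left, card_union_of_disjoint (disjoint_of_subset_left inter_subset_right
      (disjoint_of_subset_right inter_subset_right hd))]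
    have hS2 := hS l hl
    have hO2 : (l ∩ offPts L S).card ≤ 2 :=
      (card_le_card inter_subset_right).trans (card_offPts hα hL h4 hS).le
    by_cases h1 : 1 < (l ∩ S).card
    · obtain ⟨x, hx, y, hy, hxy⟩ := one_lt_card.mp h1
      rw [mem_inter] at hx hy
      have : l ∩ offPts L S = ∅ := by
        refine Finset.eq_empty_of_forall_notMem fun p hp => ?_
        rw [mem_inter] at hp
        exact (mem_filter.mp hp.2).2.2 x hx.2 y hy.2 hxy (line_unique hL hxy hl hx.1 hy.1 ▸ hp.1)
      rw [this, card_empty]; omega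
    · by_cases h0 : (l ∩ S).card = 0
      · omega
      · obtain ⟨a, ha⟩ := card_eq_one.mp (by omega : (l ∩ S).card = 1)
        have ha' : a ∈ l ∩ S := by rw [ha]; exact mem_singleton_self a
        rw [mem_inter] at ha'
        rw [unique_off_on_line hα hL h4 hS ha'.2 hl ha'.1 (fun x hx hxl =>
          mem_singleton.mp (ha ▸ mem_inter.mpr ⟨hxl, hx⟩))]
        omega
  · rintro H ⟨⟨hH6, hH⟩, hSH⟩
    refine eq_of_subset_of_card_le (fun p hp => ?_) (by omega)
    by_cases hpS : p ∈ S
    · exact mem_union_left _ hpS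
    refine mem_union_right _ (mem_filter.mpr ⟨mem_univ _, hpS, fun x hx y hy hxy hl => ?_⟩)
    exact arc_three hH (line_mem hL hxy) (line_left hL hxy) (line_right hL hxy) hl
      (hSH hx) (hSH hy) hp hxy (fun e => hpS (e ▸ hx)) (fun e => hpS (e ▸ hy))

theorem card_arcs_six : (arcs L 6).card = 168 := by
  classical
  have h := sum_card_bipartiteAbove_eq_sum_card_bipartiteBelow (fun S H => S ⊆ H)
    (s := arcs L 4) (t := arcs L 6)
  have hR : ∀ S ∈ arcs L 4, ((arcs L 6).filter fun H => S ⊆ H).card = 1 := fun S hS => by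
    obtain ⟨h4, hA⟩ := mem_arcs.mp hS
    obtain ⟨H, hH, huniq⟩ := hyperoval_unique hα hL h4 hA
    refine card_eq_one.mpr ⟨H, ?_⟩
    ext K
    simp only [mem_filter, mem_arcs, mem_singleton]
    exact ⟨huniq K, fun e => e ▸ hH⟩
  have hC : ∀ H ∈ arcs L 6, ((arcs L 4).filter fun S => S ⊆ H).card = 15 := fun H hH => by
    obtain ⟨h6, hA⟩ := mem_arcs.mp hH
    have : (arcs L 4).filter (fun S => S ⊆ H) = H.powersetCard 4 := by
      ext S
      simp only [mem_filter, mem_arcs, mem_powersetCard]
      exact ⟨fun ⟨⟨h4, _⟩, hs⟩ => ⟨hs, h4⟩, fun ⟨hs, h4⟩ => ⟨⟨h4, arc_subset hA hs⟩, hs⟩⟩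
    rw [this, card_powersetCard, h6]
    rfl
  simp only [bipartiteAbove, bipartiteBelow] at h
  rw [Finset.sum_congr rfl hR, Finset.sum_const, card_arcs_four hα hL, smul_eq_mul,
    Finset.sum_congr rfl hC, Finset.sum_const, smul_eq_mul] at h
  omega

/-! ### The plane from a labelled hyperoval -/

/-- A labelling of a hyperoval by six names. -/
def IsLabel (L : Set (Finset α)) (h : Fin 6 → α) : Prop :=
  Function.Injective h ∧ IsArc L (univ.image h)

theorem exists_label : ∃ h : Fin 6 → α, IsLabel L h := by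
  classical
  obtain ⟨H, hH⟩ := card_pos.mp (by rw [card_arcs_six hα hL]; norm_num : 0 < (arcs L 6).card)
  obtain ⟨h6, hA⟩ := mem_arcs.mp hH
  let e : ↥H ≃ Fin 6 := Fintype.equivFinOfCardEq (by rw [Fintype.card_coe, h6])
  refine ⟨fun i => (e.symm i : α), fun i j hij => e.symm.injective (Subtype.ext hij), ?_⟩
  have : univ.image (fun i => (e.symm i : α)) = H := by
    ext x
    simp only [mem_image, mem_univ, true_and]
    exact ⟨fun ⟨i, hi⟩ => hi ▸ (e.symm i).2, fun hx => ⟨e ⟨x, hx⟩, by simp⟩⟩
  rw [this]; exact hA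

variable {h : Fin 6 → α} (hh : IsLabel L h)
include hh

omit hα hL in
theorem two_only {l : Finset α} (hl : l ∈ L) {x y z : Fin 6} (hx : h x ∈ l) (hy : h y ∈ l)
    (hz : h z ∈ l) (hxy : x ≠ y) (hxz : x ≠ z) (hyz : y ≠ z) : False :=
  arc_three hh.2 hl hx hy hz (mem_image_of_mem _ (mem_univ _)) (mem_image_of_mem _ (mem_univ _))
    (mem_image_of_mem _ (mem_univ _)) (hh.1.ne hxy) (hh.1.ne hxz) (hh.1.ne hyz)

theorem secant_through {x : Fin 6} {l : Finset α} (hl : l ∈ L) (hx : h x ∈ l) :
    ∃ y, y ≠ x ∧ h y ∈ l := by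
  classical
  have hsub : (univ.erase x).image (fun y => line L (h x) (h y))
      ⊆ (blocks L).filter fun b => h x ∈ b := by
    intro b hb
    obtain ⟨y, hy, rfl⟩ := mem_image.mp hb
    have hne : h x ≠ h y := hh.1.ne (Ne.symm (ne_of_mem_erase hy))
    simp [line_mem hL hne, line_left hL hne]
  have hinj : Set.InjOn (fun y => line L (h x) (h y)) (univ.erase x : Finset (Fin 6)) := by
    intro y hy z hz hyz
    rw [mem_coe] at hy hz
    by_contra hne
    have hy' : h x ≠ h y := hh.1.ne (Ne.symm (ne_of_mem_erase hy))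
    have hz' : h x ≠ h z := hh.1.ne (Ne.symm (ne_of_mem_erase hz))
    simp only at hyz
    exact two_only hh (line_mem hL hy') (line_left hL hy') (line_right hL hy')
      (hyz ▸ line_right hL hz') (Ne.symm (ne_of_mem_erase hy)) (Ne.symm (ne_of_mem_erase hz)) hne
  have heq := eq_of_subset_of_card_le hsub
    (by rw [card_through hα hL, card_image_of_injOn hinj]; simp)
  have : l ∈ (blocks L).filter fun b => h x ∈ b := by simp [hl, hx]
  rw [← heq] at this
  obtain ⟨y, hy, rfl⟩ := mem_image.mp this
  exact ⟨y, ne_of_mem_erase hy, line_right hL (hh.1.ne (Ne.symm (ne_of_mem_erase hy)))⟩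

/-- The partner of a point of the hyperoval seen from a point off it. -/
theorem exists_partner {P : α} (hP : ∀ i, h i ≠ P) (x : Fin 6) :
    ∃! y, y ≠ x ∧ h y ∈ line L P (h x) := by
  have hne : P ≠ h x := fun e => hP x e.symm
  obtain ⟨y, hyx, hy⟩ := secant_through hα hL hh (line_mem hL hne) (line_right hL hne)
  refine ⟨y, ⟨hyx, hy⟩, fun z hz => ?_⟩
  by_contra hzy
  exact two_only hh (line_mem hL hne) (line_right hL hne) hy hz.2 (Ne.symm hyx) (Ne.symm hz.1)
    (Ne.symm hzy)

theorem exists_syn {P : α} (hP : ∀ i, h i ≠ P) :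
    ∃ j, ∀ x, h (syn j x) ∈ line L P (h x) ∧ syn j x ≠ x := by
  classical
  choose f hf hfu using exists_partner hα hL hh hP
  have hinv : ∀ x, f (f x) = x := by
    intro x
    refine (hfu (f x) x ⟨Ne.symm (hf x).1, ?_⟩).symm
    have hne : P ≠ h x := fun e => hP x e.symm
    have hne' : P ≠ h (f x) := fun e => hP _ e.symm
    rw [← line_unique hL hne' (line_mem hL hne) (line_left hL hne) (hf x).2]
    exact line_right hL hne
  obtain ⟨j, hj⟩ := syn_all (Function.Involutive.toPerm f hinv) (fun x => (hf x).1) hinv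
  refine ⟨j, fun x => ?_⟩
  have e : syn j x = f x := hj x
  rw [e]
  exact ⟨(hf x).2, (hf x).1⟩

omit hα in
theorem mem_sec {P : α} (hP : ∀ i, h i ≠ P) {x y : Fin 6} (hxy : x ≠ y)
    (hl : h y ∈ line L P (h x)) : P ∈ line L (h x) (h y) := by
  have hne : P ≠ h x := fun e => hP x e.symm
  rw [← line_unique hL (hh.1.ne hxy) (line_mem hL hne) (line_right hL hne) hl]
  exact line_left hL hne

theorem eq_of_syn {P Q : α} (hP : ∀ i, h i ≠ P) (hQ : ∀ i, h i ≠ Q) {j : Fin 15}
    (hPj : ∀ x, h (syn j x) ∈ line L P (h x) ∧ syn j x ≠ x)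
    (hQj : ∀ x, h (syn j x) ∈ line L Q (h x) ∧ syn j x ≠ x) : P = Q := by
  by_contra hne
  obtain ⟨x', hx0, hx1⟩ : ∃ x' : Fin 6, x' ≠ 0 ∧ x' ≠ syn j 0 := by
    generalize syn j 0 = z; revert z; decide
  have k := fun x => eq_of_two hL (line_mem hL (hh.1.ne (hPj x).2.symm))
    (line_mem hL (fun e => hP x e.symm : P ≠ h x))
    (x := h x) (y := h (syn j x)) (hh.1.ne (hPj x).2.symm) (line_left hL (hh.1.ne (hPj x).2.symm))
    (line_right hL (hh.1.ne (hPj x).2.symm)) (line_right hL (fun e => hP x e.symm : P ≠ h x))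
    (hPj x).1
  have hm : ∀ x, P ∈ line L (h x) (h (syn j x)) ∧ Q ∈ line L (h x) (h (syn j x)) := fun x =>
    ⟨mem_sec hL hh hP (hPj x).2.symm (hPj x).1, mem_sec hL hh hQ (hQj x).2.symm (hQj x).1⟩
  have e := eq_of_two hL (line_mem hL (hh.1.ne (hPj 0).2.symm))
    (line_mem hL (hh.1.ne (hPj x').2.symm)) hne (hm 0).1 (hm 0).2 (hm x').1 (hm x').2
  exact two_only hh (line_mem hL (hh.1.ne (hPj 0).2.symm)) (line_left hL (hh.1.ne (hPj 0).2.symm))
    (line_right hL (hh.1.ne (hPj 0).2.symm))
    (e ▸ line_left hL (hh.1.ne (hPj x').2.symm)) (hPj 0).2.symm (Ne.symm hx0) (Ne.symm hx1)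

/-- A labelled hyperoval identifies the plane with the model. -/
theorem exists_iso : ∃ Φ : Pt ≃ α, (∀ i, Φ (Sum.inl i) = h i) ∧
    (fun b : Finset Pt => b.image Φ) '' (model : Set (Finset Pt)) = L := by
  classical
  choose s hs using fun P : {P : α // ∀ i, h i ≠ P} => exists_syn hα hL hh P.2
  have hsinj : Function.Injective s := fun P Q e =>
    Subtype.ext (eq_of_syn hα hL hh P.2 Q.2 (hs P) (e ▸ hs Q))
  have hcard : Fintype.card {P : α // ∀ i, h i ≠ P} = 15 := by
    have e : ((univ : Finset α).filter fun P => ∀ i, h i ≠ P) = (univ.image h)ᶜ := by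
      ext P; simp
    rw [Fintype.card_subtype, e, card_compl, hα, card_image_of_injective _ hh.1]
    rfl
  have hsbij : Function.Bijective s :=
    (Fintype.bijective_iff_injective_and_card s).mpr ⟨hsinj, by rw [hcard, Fintype.card_fin]⟩
  let s' := Equiv.ofBijective s hsbij
  let F : Pt → α := Sum.elim h (fun j => (s'.symm j : α))
  have hFinj : Function.Injective F := by
    rintro (i | i) (j | j) e
    · exact congrArg _ (hh.1 e)
    · exact absurd e ((s'.symm j).2 i)
    · exact absurd e.symm ((s'.symm i).2 j)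
    · exact congrArg _ (s'.symm.injective (Subtype.ext e))
  let Φ : Pt ≃ α := Equiv.ofBijective F
    ((Fintype.bijective_iff_injective_and_card F).mpr ⟨hFinj, by simp [hα]⟩)
  refine ⟨Φ, fun i => rfl, ?_⟩
  have hsyn : ∀ j x, h (syn j x) ∈ line L (Φ (Sum.inr j)) (h x) ∧ syn j x ≠ x := by
    intro j x
    have := hs (s'.symm j) x
    rwa [show s (s'.symm j) = j from s'.apply_symm_apply j] at this
  have hoff : ∀ j i, h i ≠ Φ (Sum.inr j) := fun j => (s'.symm j).2
  have hpre : ∀ l ∈ L, univ.filter (fun p => Φ p ∈ l) ∈ model := by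
    intro l hl
    by_cases hex : ∃ x, h x ∈ l
    · obtain ⟨x, hx⟩ := hex
      obtain ⟨y, hyx, hy⟩ := secant_through hα hL hh hl hx
      convert secSet_mem (Ne.symm hyx) using 1
      ext (i | j)
      · simp only [mem_filter, mem_univ, true_and, secSet, mem_union, mem_insert, mem_singleton,
          mem_map, Function.Embedding.coeFn_mk, reduceCtorEq, and_false, exists_false, or_false,
          Sum.inl.injEq]
        show h i ∈ l ↔ _
        refine ⟨fun hi => ?_, fun e => e.elim (fun e => e ▸ hx) (fun e => e ▸ hy)⟩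
        by_contra hc
        push Not at hc
        exact two_only hh hl hx hy hi (Ne.symm hyx) (Ne.symm hc.1) (Ne.symm hc.2)
      · simp only [mem_filter, mem_univ, true_and, secSet, mem_union, mem_insert, mem_singleton,
          mem_map, Function.Embedding.coeFn_mk, reduceCtorEq, false_or, Sum.inr.injEq,
          exists_eq_right]
        refine ⟨fun hj => ?_, fun hj => ?_⟩
        · obtain ⟨z, -, hzu⟩ := exists_partner hα hL hh (hoff j) x
          rw [hzu (syn j x) ⟨(hsyn j x).2, (hsyn j x).1⟩]
          refine (hzu y ⟨hyx, ?_⟩).symm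
          rw [← line_unique hL (fun e => hoff j x e.symm : Φ (Sum.inr j) ≠ h x) hl hj hx]
          exact hy
        · have := mem_sec hL hh (hoff j) (hsyn j x).2.symm (hsyn j x).1
          rw [hj] at this
          rwa [← line_unique hL (hh.1.ne (Ne.symm hyx)) hl hx hy] at this
    · push Not at hex
      refine mem_union_right _ (mem_map.mpr ⟨univ.filter (fun j => Φ (Sum.inr j) ∈ l), ?_, ?_⟩)
      · rw [totals, mem_filter, mem_powersetCard]
        refine ⟨⟨subset_univ _, ?_⟩, ?_⟩
        · rw [← card_line hL hl]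
          refine card_bij (fun j _ => Φ (Sum.inr j)) (fun j hj => (mem_filter.mp hj).2)
            (fun a _ b _ e => Sum.inr_injective (Φ.injective e)) (fun p hp => ?_)
          obtain ⟨(i | j), rfl⟩ := Φ.surjective p
          · exact absurd hp (hex i)
          · exact ⟨j, mem_filter.mpr ⟨mem_univ _, hp⟩, rfl⟩
        · intro i hi j hj hij x hsx
          simp only [mem_filter, mem_univ, true_and] at hi hj
          have h1 := mem_sec hL hh (hoff i) (hsyn i x).2.symm (hsyn i x).1
          have h2 := mem_sec hL hh (hoff j) (hsyn j x).2.symm (hsyn j x).1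
          rw [← hsx] at h2
          have e := eq_of_two hL hl (line_mem hL (hh.1.ne (hsyn i x).2.symm))
            (Φ.injective.ne (Sum.inr_injective.ne hij)) hi hj h1 h2
          exact hex x (e ▸ line_left hL (hh.1.ne (hsyn i x).2.symm))
      · ext (i | j)
        · simp only [Function.Embedding.coeFn_mk, mem_map, mem_filter, mem_univ, true_and,
            reduceCtorEq, and_false, exists_false, false_iff]
          exact hex i
        · simp
  have hinv : ∀ l : Finset α, (univ.filter fun p => Φ p ∈ l).image Φ = l := by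
    intro l; ext a
    simp only [mem_image, mem_filter, mem_univ, true_and]
    exact ⟨fun ⟨p, hp, e⟩ => e ▸ hp, fun ha => ⟨Φ.symm a, by simpa using ha, by simp⟩⟩
  have hsub : blocks L ⊆ model.image (fun b => b.image Φ) := fun l hl =>
    mem_image.mpr ⟨_, hpre l (mem_blocks.mp hl), hinv l⟩
  have heq := eq_of_subset_of_card_le hsub
    (card_image_le.trans (card_model.trans (card_lines hα hL).ge))
  ext l
  simp only [Set.mem_image, mem_coe]
  rw [← mem_blocks, heq, mem_image]

theorem line_perm_unique {g : Equiv.Perm α} (hg : g ∈ setSystemAut L) (hfix : ∀ i, g (h i) = h i) :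
    g = 1 := by
  classical
  ext P
  by_cases hP : ∃ i, h i = P
  · obtain ⟨i, rfl⟩ := hP
    exact hfix i
  push Not at hP
  have hgP : ∀ i, h i ≠ g P := fun i e => hP i (g.injective ((hfix i).trans e))
  have hmap : ∀ b ∈ L, b.image g ∈ L := fun b hb => by
    have h1 : g • b ∈ g • L := Set.smul_mem_smul_set hb
    rw [MulAction.mem_stabilizer_iff.mp hg] at h1
    exact h1
  obtain ⟨j, hj⟩ := exists_syn hα hL hh hP
  refine eq_of_syn hα hL hh hgP hP (j := j) (fun x => ⟨?_, (hj x).2⟩) hj
  have hne : P ≠ h x := fun e => hP x e.symm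
  have hr := mem_image_of_mem g (line_right hL hne)
  rw [hfix x] at hr
  have hs := mem_image_of_mem g (hj x).1
  rw [hfix (syn j x)] at hs
  rw [← line_unique hL (fun e => hgP x e.symm : g P ≠ h x) (hmap _ (line_mem hL hne))
    (mem_image_of_mem _ (line_left hL hne)) hr]
  exact hs

end Plane

end Cfsg.Lib.PlaneFour
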