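import Cfsg.Agent.Steiner.ChainData
import Cfsg.Agent.Steiner.Counting
import Cfsg.Prelude.Def_Sporadic_a

/-!
Uniqueness of small Steiner systems `S(t, t+1, n)` along a certified chain, with a transitive set of
automorphisms and the triviality of an automorphism fixing `t` points.

Each step picks a `t`-set whose block is not yet known; every admissible extra point is carried to
the canonical one by a relabelling that preserves the known blocks.
-/

namespace Cfsg.Lib.SteinerChain

open Cfsg Finset
open scoped Pointwise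

variable {n : ℕ}

/-- The image of a mask under a table. -/
def img (π : List ℕ) (m : ℕ) : ℕ :=
  (List.range π.length).foldr (fun i a => if m.testBit i then a ||| 2 ^ π.getD i 0 else a) 0

/-- The set of a mask. -/
def fs (n m : ℕ) : Finset (Fin n) := univ.filter fun i => m.testBit i = true

/-- The size of the set of a mask. -/
def cnt (n m : ℕ) : ℕ := (List.finRange n).countP fun i => m.testBit i.val

theorem card_fs (m : ℕ) : (fs n m).card = cnt n m := by
  rw [cnt, List.countP_eq_length_filter]
  show ((List.finRange n).filter _).length = _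
  congr 1
  refine List.filter_congr fun i _ => ?_
  simp

theorem mem_fs {m : ℕ} {i : Fin n} : i ∈ fs n m ↔ m.testBit i = true := by simp [fs]

theorem fs_and (a b : ℕ) : fs n (a &&& b) = fs n a ∩ fs n b := by
  ext i; simp [mem_fs]

theorem fs_eq_of_xor {a b : ℕ} (h : cnt n (a ^^^ b) = 0) : fs n a = fs n b := by
  rw [← card_fs, card_eq_zero] at h
  ext i
  have := Finset.ext_iff.mp h i
  simp only [mem_fs, Nat.testBit_xor, notMem_empty, iff_false, Bool.not_eq_true] at this ⊢
  revert this
  cases a.testBit i <;> cases b.testBit i <;> simp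

theorem xor_eq_zero_of_fs {a b : ℕ} (h : fs n a = fs n b) : cnt n (a ^^^ b) = 0 := by
  rw [← card_fs, card_eq_zero]
  ext i
  have := Finset.ext_iff.mp h i
  simp only [mem_fs, Nat.testBit_xor, notMem_empty, iff_false, Bool.not_eq_true] at this ⊢
  revert this
  cases a.testBit i <;> cases b.testBit i <;> simp

theorem fs_add (F : ℕ) (x : Fin n) : fs n (F ||| 2 ^ (x : ℕ)) = insert x (fs n F) := by
  ext i
  simp only [mem_fs, Nat.testBit_or, Bool.or_eq_true, Finset.mem_insert, Nat.testBit_two_pow,
    decide_eq_true_eq, Fin.val_inj]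
  exact or_comm.trans (or_congr_left eq_comm)

/-- Validity of a table. -/
def permOK (n : ℕ) (π : List ℕ) : Bool := π.length == n && π.all (· < n) && decide π.Nodup

theorem exists_perm {π : List ℕ} (h : permOK n π = true) :
    ∃ σ : Equiv.Perm (Fin n), ∀ m, fs n (img π m) = (fs n m).image σ := by
  simp only [permOK, Bool.and_eq_true, beq_iff_eq, List.all_eq_true, decide_eq_true_eq] at h
  obtain ⟨⟨hl, hlt⟩, hnd⟩ := h
  have hget : ∀ i : Fin n, π.getD i 0 = π[(i : ℕ)]'(hl ▸ i.2) := fun i =>
    List.getD_eq_getElem _ _ (hl ▸ i.2)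
  let f : Fin n → Fin n := fun i => ⟨π.getD i 0, by rw [hget]; exact hlt _ (List.getElem_mem _)⟩
  have hf : Function.Injective f := fun i j hij => by
    have h' : π.getD i 0 = π.getD j 0 := congrArg Fin.val hij
    rw [hget, hget] at h'
    exact Fin.ext (hnd.getElem_inj_iff.mp h')
  refine ⟨Equiv.ofBijective f ⟨hf, Finite.surjective_of_injective hf⟩, fun m => ?_⟩
  ext i
  have key : ∀ l : List ℕ, (l.foldr (fun i a => if m.testBit i then a ||| 2 ^ π.getD i 0 else a) 0).testBit i = true
      ↔ ∃ x ∈ l, m.testBit x = true ∧ π.getD x 0 = i := by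
    intro l
    induction l with
    | nil => simp
    | cons x l ih =>
      simp only [List.foldr_cons, List.mem_cons, exists_eq_or_imp]
      by_cases hb : m.testBit x = true
      · simp only [hb, if_true, Nat.testBit_or, Bool.or_eq_true, ih, true_and, Nat.testBit_two_pow,
          decide_eq_true_eq]
        exact or_comm
      · rw [if_neg hb, ih]
        simp only [hb, false_and, false_or, Bool.false_eq_true]
  rw [mem_fs, img, key, hl]
  simp only [mem_image, mem_fs, List.mem_range]
  constructor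
  · rintro ⟨x, hx, hb, hxi⟩
    exact ⟨⟨x, hx⟩, hb, Fin.ext hxi⟩
  · rintro ⟨x, hb, hxi⟩
    exact ⟨x, x.2, hb, congrArg Fin.val hxi⟩

/-- Admissible extra points for a set. -/
def cands (n t : ℕ) (K : List ℕ) (F : ℕ) : List ℕ :=
  (List.range n).filter fun x => !F.testBit x && K.all fun m =>
    cnt n (m ^^^ (F ||| 2 ^ x)) == 0 || decide (cnt n (m &&& (F ||| 2 ^ x)) < t)

/-- One step of the chain. -/
def stepOK (n t : ℕ) (K : List ℕ) (e : ℕ × ℕ × List (ℕ × List ℕ)) : Bool :=
  cnt n e.1 == t && (cands n t K e.1 == e.2.2.map Prod.fst) &&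
    e.2.2.all fun c => permOK n c.2 &&
      ((e.1 ||| 2 ^ e.2.1) :: K).all fun m => (((e.1 ||| 2 ^ c.1) :: K).map (img c.2)).contains m

/-- The blocks known after a chain. -/
def final : List ℕ → List (ℕ × ℕ × List (ℕ × List ℕ)) → List ℕ
  | K, [] => K
  | K, e :: l => final ((e.1 ||| 2 ^ e.2.1) :: K) l

/-- All steps. -/
def chainOK (n t : ℕ) : List ℕ → List (ℕ × ℕ × List (ℕ × List ℕ)) → Bool
  | _, [] => true
  | K, e :: l => stepOK n t K e && chainOK n t ((e.1 ||| 2 ^ e.2.1) :: K) l

theorem image_system {t k : ℕ} {α β : Type*} [Fintype α] [DecidableEq α] [Fintype β] [DecidableEq β]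
    {B : Set (Finset α)} (hB : IsSteinerSystem t k B) (e : α ≃ β) :
    IsSteinerSystem t k ((fun b : Finset α => b.image e) '' B) := by
  refine ⟨?_, fun s hs => ?_⟩
  · rintro _ ⟨b, hb, rfl⟩
    rw [card_image_of_injective _ e.injective]; exact hB.1 b hb
  · obtain ⟨b, ⟨hb, hsb⟩, huniq⟩ := hB.2 (s.image e.symm) (by rw [card_image_of_injective _ e.symm.injective, hs])
    refine ⟨b.image e, ⟨⟨b, hb, rfl⟩, fun x hx => ?_⟩, ?_⟩
    · exact mem_image.mpr ⟨e.symm x, hsb (mem_image_of_mem _ hx), e.apply_symm_apply x⟩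
    · rintro _ ⟨⟨c, hc, rfl⟩, hsc⟩
      rw [huniq c ⟨hc, fun x hx => ?_⟩]
      obtain ⟨y, hy, rfl⟩ := mem_image.mp hx
      obtain ⟨z, hz, rfl⟩ := mem_image.mp (hsc hy)
      simpa using hz

theorem step_sound {t : ℕ} {K : List ℕ} {e : ℕ × ℕ × List (ℕ × List ℕ)} (h : stepOK n t K e = true)
    {B : Set (Finset (Fin n))} (hB : IsSteinerSystem t (t + 1) B) (hK : ∀ m ∈ K, fs n m ∈ B) :
    ∃ σ : Equiv.Perm (Fin n), ∀ m ∈ (e.1 ||| 2 ^ e.2.1) :: K, fs n m ∈ (fun b : Finset (Fin n) => b.image σ) '' B := by
  simp only [stepOK, Bool.and_eq_true, beq_iff_eq, List.all_eq_true] at h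
  obtain ⟨⟨hF, hc⟩, hkids⟩ := h
  obtain ⟨b, ⟨hb, hFb⟩, -⟩ := hB.2 (fs n e.1) (by rw [card_fs, hF])
  obtain ⟨x, hx⟩ := card_eq_one.mp (show (b \ fs n e.1).card = 1 by
    rw [card_sdiff_of_subset hFb, hB.1 b hb, card_fs, hF]; omega)
  have hxm : x ∈ b \ fs n e.1 := hx ▸ mem_singleton_self x
  have hbe : fs n (e.1 ||| 2 ^ (x : ℕ)) = b := by
    rw [fs_add, insert_eq, ← hx, sdiff_union_of_subset hFb]
  have hxc : (x : ℕ) ∈ cands n t K e.1 := by
    refine List.mem_filter.mpr ⟨List.mem_range.mpr x.2, ?_⟩
    simp only [Bool.and_eq_true, Bool.not_eq_true', List.all_eq_true, Bool.or_eq_true, beq_iff_eq,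
      decide_eq_true_eq]
    refine ⟨?_, fun m hm => ?_⟩
    · have := (Finset.mem_sdiff.mp hxm).2
      rw [mem_fs] at this
      simpa using this
    · by_cases he : fs n m = fs n (e.1 ||| 2 ^ (x : ℕ))
      · exact Or.inl (xor_eq_zero_of_fs he)
      · refine Or.inr ?_
        rw [← card_fs, fs_and]
        by_contra hlt
        refine he ?_
        rw [hbe] at hlt ⊢
        exact Steiner.eq_of_le_inter hB (hK m hm) hb (not_lt.mp hlt)
  rw [hc] at hxc
  obtain ⟨c, hcm, hcx⟩ := List.mem_map.mp hxc
  obtain ⟨hp, hmaps⟩ := hkids c hcm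
  obtain ⟨σ, hσ⟩ := exists_perm hp
  refine ⟨σ, fun m hm => ?_⟩
  have := hmaps m hm
  simp only [List.contains_eq_mem, decide_eq_true_eq, List.mem_map] at this
  obtain ⟨m', hm', rfl⟩ := this
  refine ⟨fs n m', ?_, (hσ m').symm⟩
  rcases List.mem_cons.mp hm' with rfl | hm'
  · rw [hcx, hbe]; exact hb
  · exact hK m' hm'

theorem chain_sound {t : ℕ} : ∀ (l : List (ℕ × ℕ × List (ℕ × List ℕ))) (K : List ℕ),
    chainOK n t K l = true → ∀ B : Set (Finset (Fin n)), IsSteinerSystem t (t + 1) B →
    (∀ m ∈ K, fs n m ∈ B) →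
    ∃ σ : Equiv.Perm (Fin n), ∀ m ∈ final K l, fs n m ∈ (fun b : Finset (Fin n) => b.image σ) '' B
  | [], K, _, B, _, hK => ⟨1, fun m hm => ⟨fs n m, hK m hm, by simp [Equiv.Perm.one_def]⟩⟩
  | e :: l, K, h, B, hB, hK => by
    simp only [chainOK, Bool.and_eq_true] at h
    obtain ⟨σ, hσ⟩ := step_sound h.1 hB hK
    obtain ⟨τ, hτ⟩ := chain_sound l _ h.2 _ (image_system hB σ) hσ
    refine ⟨τ * σ, fun m hm => ?_⟩
    obtain ⟨_, ⟨b, hb, rfl⟩, he⟩ := hτ m hm
    refine ⟨b, hb, ?_⟩
    rw [← he]
    simp only [Finset.image_image, Equiv.Perm.coe_mul]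

/-- The model system. -/
def model (n : ℕ) (K : List ℕ) : Set (Finset (Fin n)) := {b | ∃ m ∈ K, fs n m = b}

/-- Full certificate of a chain. -/
def fullOK (n t N : ℕ) (K : List ℕ) : Bool :=
  decide (K.length = N) && decide (N * (t + 1).choose t = n.choose t) &&
    K.all (fun m => decide (m < 2 ^ n)) && decide K.Nodup

theorem fs_inj {a b : ℕ} (ha : a < 2 ^ n) (hb : b < 2 ^ n) (h : fs n a = fs n b) : a = b := by
  refine Nat.eq_of_testBit_eq fun i => ?_
  by_cases hi : i < n
  · have := Finset.ext_iff.mp h ⟨i, hi⟩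
    simp only [mem_fs] at this
    cases hA : a.testBit i <;> cases hB : b.testBit i <;> simp_all
  · have h2 : 2 ^ n ≤ 2 ^ i := Nat.pow_le_pow_right (by norm_num) (by omega)
    rw [Nat.testBit_lt_two_pow (lt_of_lt_of_le ha h2), Nat.testBit_lt_two_pow (lt_of_lt_of_le hb h2)]

theorem exists_iso {t N : ℕ} {l : List (ℕ × ℕ × List (ℕ × List ℕ))} (hl : chainOK n t [] l = true)
    (hf : fullOK n t N (final [] l) = true) {α : Type*} [Fintype α] [DecidableEq α]
    (hα : Fintype.card α = n) {B : Set (Finset α)} (hB : IsSteinerSystem t (t + 1) B) :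
    ∃ e : Fin n ≃ α, (fun b : Finset (Fin n) => b.image e) '' model n (final [] l) = B := by
  let e₀ : α ≃ Fin n := Fintype.equivFinOfCardEq hα
  set B₁ := (fun b : Finset α => b.image e₀) '' B with hB₁d
  have hB₁ : IsSteinerSystem t (t + 1) B₁ := image_system hB e₀
  obtain ⟨σ, hσ⟩ := chain_sound l [] hl B₁ hB₁ (by simp)
  simp only [fullOK, Bool.and_eq_true, decide_eq_true_eq, List.all_eq_true] at hf
  obtain ⟨⟨⟨hlen, hN⟩, hlt⟩, hnd⟩ := hf
  set K := final [] l
  have hB₂ := image_system hB₁ σ
  have heq : model n K = (fun b : Finset (Fin n) => b.image σ) '' B₁ := by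
    refine Set.eq_of_subset_of_ncard_le ?_ ?_ (Set.toFinite _)
    · rintro _ ⟨m, hm, rfl⟩; exact hσ m hm
    · have h1 := Steiner.ncard_blocks hB₂
      rw [Fintype.card_fin, ← hN] at h1
      have hpos : 0 < (t + 1).choose t := Nat.choose_pos (by omega)
      rw [Nat.eq_of_mul_eq_mul_right hpos h1, ← hlen, ← List.toFinset_card_of_nodup hnd]
      have e' : model n K = fs n '' (K.toFinset : Set ℕ) := by
        ext b; simp [model]
      rw [e', Set.ncard_image_of_injOn, Set.ncard_coe_finset]
      intro a ha b hb hab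
      rw [mem_coe, List.mem_toFinset] at ha hb
      exact fs_inj (hlt a ha) (hlt b hb) hab
  refine ⟨(e₀.trans σ).symm, ?_⟩
  rw [heq, hB₁d, Set.image_image, Set.image_image]
  refine (Set.image_congr' fun b => ?_).trans (Set.image_id B)
  rw [Finset.image_image, Finset.image_image]
  refine (Finset.image_congr fun x _ => ?_).trans Finset.image_id
  simp

theorem setSystemIso {t N : ℕ} {l : List (ℕ × ℕ × List (ℕ × List ℕ))} (hl : chainOK n t [] l = true)
    (hf : fullOK n t N (final [] l) = true) {α β : Type*} [Fintype α] [DecidableEq α] [Fintype β]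
    [DecidableEq β] (hα : Fintype.card α = n) (hβ : Fintype.card β = n) {B : Set (Finset α)}
    {B' : Set (Finset β)} (hB : IsSteinerSystem t (t + 1) B) (hB' : IsSteinerSystem t (t + 1) B') :
    SetSystemIso B B' := by
  obtain ⟨e, he⟩ := exists_iso hl hf hα hB
  obtain ⟨e', he'⟩ := exists_iso hl hf hβ hB'
  refine ⟨e.symm.trans e', ?_⟩
  rw [← he, Set.image_image, ← he']
  refine Set.image_congr' fun b => ?_
  rw [Finset.image_image]
  exact Finset.image_congr fun x _ => by simp

/-! ### Automorphisms -/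

/-- The moves preserve the blocks, fix an initial segment and move each point to the next place. -/
def movesOK (n : ℕ) (K : List ℕ) (mv : List (List (List ℕ))) : Bool :=
  (List.range mv.length).all fun i =>
    (List.range (n - i)).all fun j => (fun π : List ℕ => permOK n π &&
      (K.all fun m => K.contains (img π m)) &&
      ((List.range i).all fun q => π.getD q 0 == q) && π.getD (i + j) 0 == i) ((mv.getD i []).getD j [])

/-- All insertions of a member into a list. -/
def insAll (x : ℕ) : List ℕ → List (List ℕ)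
  | [] => [[x]]
  | y :: l => (x :: y :: l) :: (insAll x l).map (y :: ·)

/-- All rearrangements of a list. -/
def perms : List ℕ → List (List ℕ)
  | [] => [[]]
  | x :: l => (perms l).flatMap (insAll x)

theorem mem_insAll (x : ℕ) : ∀ a b : List ℕ, a ++ x :: b ∈ insAll x (a ++ b)
  | [], [] => by simp [insAll]
  | [], y :: b => by simp [insAll]
  | z :: a, b => by
    simp only [List.cons_append, insAll, List.mem_cons, List.mem_map]
    exact Or.inr ⟨_, mem_insAll x a b, rfl⟩

theorem mem_perms : ∀ {l l' : List ℕ}, l'.Perm l → l' ∈ perms l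
  | [], l', h => by rw [List.perm_nil.mp h]; simp [perms]
  | x :: l, l', h => by
    obtain ⟨a, b, rfl⟩ := List.append_of_mem (h.mem_iff.mpr (List.mem_cons_self (a := x)))
    refine List.mem_flatMap.mpr ⟨a ++ b, mem_perms ?_, mem_insAll x a b⟩
    exact List.Perm.cons_inv (List.perm_middle.symm.trans h)

/-- No non-trivial permutation fixing `0, …, t` preserves the blocks. -/
def rigidOK (n t : ℕ) (K : List ℕ) : Bool :=
  (perms ((List.range n).drop (t + 1))).all fun p =>
    decide (p = (List.range n).drop (t + 1)) ||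
      K.any fun m => !K.contains (img (List.range (t + 1) ++ p) m)

variable {K : List ℕ}

theorem mem_aut {σ : Equiv.Perm (Fin n)} {B : Set (Finset (Fin n))}
    (h : ∀ b ∈ B, b.image σ ∈ B) : σ ∈ setSystemAut B := by
  rw [MulAction.mem_stabilizer_iff]
  refine Set.eq_of_subset_of_ncard_le ?_ ?_ (Set.toFinite _)
  · rintro _ ⟨b, hb, rfl⟩; exact h b hb
  · exact le_of_eq (Set.ncard_image_of_injective _ (MulAction.injective σ)).symm

theorem image_mem_of_aut {α : Type*} [DecidableEq α] {σ : Equiv.Perm α} {B : Set (Finset α)}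
    (h : σ ∈ setSystemAut B) {b : Finset α} (hb : b ∈ B) : b.image σ ∈ B := by
  have h1 : σ • b ∈ σ • B := Set.smul_mem_smul_set hb
  rw [MulAction.mem_stabilizer_iff.mp h] at h1
  exact h1

theorem exists_perm_getD {π : List ℕ} (h : permOK n π = true) :
    ∃ σ : Equiv.Perm (Fin n), (∀ m, fs n (img π m) = (fs n m).image σ) ∧
      ∀ i : Fin n, ((σ i : Fin n) : ℕ) = π.getD i 0 := by
  obtain ⟨σ, hσ⟩ := exists_perm h
  refine ⟨σ, hσ, fun i => ?_⟩
  have hh := h
  simp only [permOK, Bool.and_eq_true, beq_iff_eq, List.all_eq_true, decide_eq_true_eq] at hh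
  have hlt : π.getD i 0 < n := by
    rw [List.getD_eq_getElem _ _ (hh.1.1 ▸ i.2)]; exact hh.1.2 _ (List.getElem_mem _)
  have hi : σ i ∈ (fs n (2 ^ (i : ℕ))).image σ := mem_image_of_mem _ (by simp [mem_fs])
  rw [← hσ, mem_fs, img, hh.1.1] at hi
  have key : ∀ l : List ℕ, (l.foldr (fun q a => if (2 ^ (i : ℕ)).testBit q then a ||| 2 ^ π.getD q 0 else a) 0).testBit (σ i) = true
      → π.getD i 0 = (σ i : ℕ) := by
    intro l
    induction l with
    | nil => simp
    | cons x l ih =>
      simp only [List.foldr_cons]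
      by_cases hb : (2 ^ (i : ℕ)).testBit x = true
      · rw [if_pos hb, Nat.testBit_or, Bool.or_eq_true]
        rintro (h' | h')
        · exact ih h'
        · rw [Nat.testBit_two_pow, decide_eq_true_eq] at hb h'
          rw [hb]; exact h'
      · rw [if_neg hb]; exact ih
  exact (key _ hi).symm

theorem move_first {t : ℕ} {mv : List (List (List ℕ))} (hm : movesOK n K mv = true)
    (hlen : mv.length = t) (i : ℕ) (hi : i < t) (j : Fin n) (hij : i ≤ j) :
    ∃ σ ∈ setSystemAut (model n K), (∀ q : Fin n, (q : ℕ) < i → σ q = q) ∧ ((σ j : Fin n) : ℕ) = i := by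
  simp only [movesOK, List.all_eq_true, List.mem_range, Bool.and_eq_true, beq_iff_eq,
    List.contains_eq_mem, decide_eq_true_eq] at hm
  obtain ⟨⟨⟨hp, hK⟩, hfix⟩, hmove⟩ := hm i (hlen ▸ hi) ((j : ℕ) - i) (by have := j.2; omega)
  obtain ⟨σ, hσ, hσi⟩ := exists_perm_getD hp
  refine ⟨σ, mem_aut ?_, fun q hq => Fin.ext ((hσi q).trans (hfix q hq)), ?_⟩
  · rintro _ ⟨m, hm', rfl⟩
    exact ⟨_, hK m hm', hσ m⟩
  · have e : (j : ℕ) = i + ((j : ℕ) - i) := by omega
    rw [hσi]
    exact (congrArg (fun q => List.getD _ q 0) e).trans hmove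

theorem exists_aut_to_base {t : ℕ} {mv : List (List (List ℕ))} (hm : movesOK n K mv = true)
    (hlen : mv.length = t) (x : Fin t ↪ Fin n) :
    ∀ k ≤ t, ∃ σ ∈ setSystemAut (model n K), ∀ q : Fin t, (q : ℕ) < k → ((σ (x q) : Fin n) : ℕ) = q := by
  intro k
  induction k with
  | zero => exact fun _ => ⟨1, one_mem _, fun q hq => absurd hq (Nat.not_lt_zero _)⟩
  | succ k ih =>
    intro hk
    obtain ⟨σ, hσ, hσx⟩ := ih (by omega)
    have hge : k ≤ ((σ (x ⟨k, hk⟩) : Fin n) : ℕ) := by
      by_contra hlt
      push Not at hlt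
      have h' := hσx ⟨_, hlt.trans hk⟩ hlt
      have := x.injective (σ.injective (Fin.ext h'))
      have := congrArg Fin.val this
      simp only at this
      omega
    obtain ⟨τ, hτ, hfix, hτj⟩ := move_first hm hlen k hk _ hge
    refine ⟨τ * σ, mul_mem hτ hσ, fun q hq => ?_⟩
    rcases Nat.lt_succ_iff_lt_or_eq.mp hq with h' | h'
    · rw [Equiv.Perm.mul_apply, hfix _ (by rw [hσx q h']; exact h'), hσx q h']
    · have : q = ⟨k, hk⟩ := Fin.ext h'
      subst this
      exact hτj

theorem eq_one_of_fix_first {t : ℕ} (hr : rigidOK n t K = true) (hK : ∀ m ∈ K, m < 2 ^ n)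
    (hB : IsSteinerSystem t (t + 1) (model n K)) (h0 : 2 ^ (t + 1) - 1 ∈ K) (htn : t + 1 ≤ n)
    {σ : Equiv.Perm (Fin n)} (hσ : σ ∈ setSystemAut (model n K))
    (hfix : ∀ q : Fin n, (q : ℕ) < t → σ q = q) : σ = 1 := by
  have hfix' : ∀ q : Fin n, (q : ℕ) < t + 1 → σ q = q := by
    intro q hq
    rcases Nat.lt_succ_iff_lt_or_eq.mp hq with h | h
    · exact hfix q h
    have hb : fs n (2 ^ (t + 1) - 1) ∈ model n K := ⟨_, h0, rfl⟩
    let ι : Fin t ↪ Fin n := Fin.castLEEmb (by omega)
    have hS : univ.map ι ⊆ fs n (2 ^ (t + 1) - 1) := fun p hp => by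
      obtain ⟨a, -, rfl⟩ := mem_map.mp hp
      rw [mem_fs, Nat.testBit_two_pow_sub_one, decide_eq_true_eq]
      have := a.2
      simp [ι]
    have hS' : univ.map ι ⊆ (fs n (2 ^ (t + 1) - 1)).image σ := fun p hp => by
      have hlt : (p : ℕ) < t := by obtain ⟨a, -, rfl⟩ := mem_map.mp hp; simp [ι]
      rw [← hfix p hlt]
      exact mem_image_of_mem _ (hS hp)
    have heq := (hB.2 (univ.map ι) (by simp)).unique ⟨image_mem_of_aut hσ hb, hS'⟩ ⟨hb, hS⟩
    have hmem : σ q ∈ (fs n (2 ^ (t + 1) - 1)).image σ := mem_image_of_mem _ (by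
      rw [mem_fs, Nat.testBit_two_pow_sub_one, decide_eq_true_eq]; omega)
    rw [heq, mem_fs, Nat.testBit_two_pow_sub_one, decide_eq_true_eq] at hmem
    rcases Nat.lt_succ_iff_lt_or_eq.mp hmem with h1 | h1
    · exact σ.injective (hfix (σ q) h1)
    · exact Fin.ext (h1.trans h.symm)
  set g : ℕ → ℕ := fun q => if h : q < n then (σ ⟨q, h⟩ : ℕ) else q with hg
  set L := (List.range n).map g with hL
  have hLd : L = List.range (t + 1) ++ L.drop (t + 1) := by
    conv_lhs => rw [← List.take_append_drop (t + 1) L]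
    congr 1
    refine List.ext_getElem (by simp [hL]; omega) fun i h1 h2 => ?_
    simp only [List.length_range] at h2
    simp only [hL, List.getElem_take, List.getElem_map, List.getElem_range, hg]
    rw [dif_pos (by omega), hfix' _ h2]
  have hp : permOK n L = true := by
    simp only [permOK, Bool.and_eq_true, beq_iff_eq, List.all_eq_true, decide_eq_true_eq]
    refine ⟨⟨by simp [hL], fun a ha => ?_⟩, ?_⟩
    · obtain ⟨q, hq, rfl⟩ := List.mem_map.mp ha
      simp only [hg, dif_pos (List.mem_range.mp hq)]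
      exact (σ _).2
    · refine List.Nodup.map_on (fun a ha b hb hab => ?_) List.nodup_range
      simp only [hg, dif_pos (List.mem_range.mp ha), dif_pos (List.mem_range.mp hb)] at hab
      exact congrArg Fin.val (σ.injective (Fin.ext hab))
  obtain ⟨σ', hσ', hval⟩ := exists_perm_getD hp
  have hss : σ' = σ := Equiv.ext fun q => Fin.ext (by
    rw [hval, hL, List.getD_eq_getElem _ _ (by simp)]
    simp [hg])
  subst hss
  have hperm : L.drop (t + 1) ∈ perms ((List.range n).drop (t + 1)) := by
    refine mem_perms ?_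
    have h1 : L.Perm (List.range n) := by
      simp only [permOK, Bool.and_eq_true, beq_iff_eq, List.all_eq_true, decide_eq_true_eq] at hp
      refine (List.perm_ext_iff_of_nodup hp.2 List.nodup_range).mpr fun a => ⟨fun ha => ?_, fun ha => ?_⟩
      · exact List.mem_range.mpr (hp.1.2 a ha)
      · obtain ⟨q, hq⟩ := σ'.surjective ⟨a, List.mem_range.mp ha⟩
        refine List.mem_map.mpr ⟨q, List.mem_range.mpr q.2, ?_⟩
        simp only [hg, dif_pos q.2, Fin.eta, hq]
    have h2 : List.range n = List.range (t + 1) ++ (List.range n).drop (t + 1) := by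
      conv_lhs => rw [← List.take_append_drop (t + 1) (List.range n)]
      rw [List.take_range, min_eq_left htn]
    rw [hLd] at h1
    rw [h2] at h1
    exact (List.perm_append_left_iff _).mp h1
  simp only [rigidOK, List.all_eq_true, Bool.or_eq_true, decide_eq_true_eq, List.any_eq_true,
    Bool.not_eq_true', List.contains_eq_mem, decide_eq_false_iff_not] at hr
  rcases hr _ hperm with h | ⟨m, hm, hnot⟩
  · refine Equiv.ext fun q => Fin.ext ?_
    rw [hval, hLd, h, show List.range (t + 1) ++ (List.range n).drop (t + 1) = List.range n by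
      conv_rhs => rw [← List.take_append_drop (t + 1) (List.range n)]
      rw [List.take_range, min_eq_left htn]]
    rw [List.getD_eq_getElem _ _ (by simp)]
    simp
  · exfalso
    obtain ⟨m', hm', he⟩ := image_mem_of_aut hσ (⟨m, hm, rfl⟩ : fs n m ∈ model n K)
    rw [← hσ', ← hLd] at *
    have hlt : img L m < 2 ^ n := by
      refine Nat.lt_pow_two_of_testBit _ fun i hi => ?_
      by_contra hb
      rw [Bool.not_eq_false] at hb
      have hall : ∀ l : List ℕ, (∀ q ∈ l, q < n) →
          (l.foldr (fun q a => if m.testBit q then a ||| 2 ^ L.getD q 0 else a) 0).testBit i = false := by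
        intro l
        induction l with
        | nil => simp
        | cons x l ih =>
          intro hl
          simp only [List.foldr_cons]
          have hx := hval ⟨x, hl x (by simp)⟩
          have hxn := (σ' ⟨x, hl x (by simp)⟩).2
          split_ifs
          · rw [Nat.testBit_or, ih (fun q hq => hl q (by simp [hq])), Nat.testBit_two_pow]
            simp only [Bool.false_or, decide_eq_false_iff_not]
            simp only at hx
            omega
          · exact ih (fun q hq => hl q (by simp [hq]))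
      rw [img, hall _ (by simp [hL])] at hb
      exact Bool.false_ne_true hb
    rw [fs_inj (hK m' hm') hlt he] at hm'
    exact hnot hm'

/-- Everything about the automorphism group of such a system. -/
theorem aut_sharp {t N : ℕ} {l : List (ℕ × ℕ × List (ℕ × List ℕ))} {mv : List (List (List ℕ))}
    (hl : chainOK n t [] l = true) (hf : fullOK n t N (final [] l) = true)
    (hm : movesOK n (final [] l) mv = true) (hlen : mv.length = t)
    (hr : rigidOK n t (final [] l) = true) (h0 : 2 ^ (t + 1) - 1 ∈ final [] l) (htn : t + 1 ≤ n)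
    {α : Type*} [Fintype α] [DecidableEq α] (hα : Fintype.card α = n) {B : Set (Finset α)}
    (hB : IsSteinerSystem t (t + 1) B) :
    MulAction.IsMultiplyPretransitive (setSystemAut B) α t ∧
      ∀ x : Fin t ↪ α, MulAction.stabilizer (setSystemAut B) x = ⊥ := by
  set K := final [] l
  obtain ⟨e, he⟩ := exists_iso hl hf hα hB
  have hmodel : IsSteinerSystem t (t + 1) (model n K) := by
    have h := image_system hB e.symm
    rwa [← he, Set.image_image, Set.image_congr' (g := id) (fun b => by simp [Finset.image_image]),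
      Set.image_id] at h
  have hK : ∀ m ∈ K, m < 2 ^ n := by
    simp only [fullOK, Bool.and_eq_true, List.all_eq_true, decide_eq_true_eq] at hf
    exact hf.1.2
  have hup : ∀ σ ∈ setSystemAut (model n K), (e.permCongr σ : Equiv.Perm α) ∈ setSystemAut B := by
    intro σ hσ
    rw [MulAction.mem_stabilizer_iff]
    refine Set.eq_of_subset_of_ncard_le ?_
      (le_of_eq (Set.ncard_image_of_injective _ (MulAction.injective (e.permCongr σ))).symm) (Set.toFinite _)
    rintro _ ⟨b, hb, rfl⟩
    rw [← he] at hb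
    obtain ⟨c, hc, rfl⟩ := hb
    refine he ▸ ⟨c.image σ, image_mem_of_aut hσ hc, ?_⟩
    show (c.image σ).image e = (c.image e).image (e.permCongr σ)
    rw [Finset.image_image, Finset.image_image]
    exact Finset.image_congr fun x _ => by simp
  have hdown : ∀ g ∈ setSystemAut B, (e.symm.permCongr g : Equiv.Perm (Fin n)) ∈ setSystemAut (model n K) := by
    intro g hg
    refine mem_aut fun c hc => ?_
    obtain ⟨c', hc', hce⟩ : (c.image e).image g ∈ (fun b : Finset (Fin n) => b.image e) '' model n K := by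
      rw [he]; exact image_mem_of_aut hg (he ▸ ⟨c, hc, rfl⟩)
    simp only [Finset.image_image] at hce
    suffices h' : c.image (e.symm.permCongr g) = c' from h' ▸ hc'
    refine Finset.image_injective e.injective ?_
    rw [hce, Finset.image_image]
    exact Finset.image_congr fun x _ => by simp
  have hbase : ∀ x : Fin t ↪ α, ∃ g ∈ setSystemAut B, ∀ q : Fin t, g (x q) = e (Fin.castLE (by omega) q) := by
    intro x
    obtain ⟨σ, hσ, hσx⟩ := exists_aut_to_base hm hlen (x.trans e.symm.toEmbedding) t le_rfl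
    refine ⟨e.permCongr σ, hup σ hσ, fun q => ?_⟩
    rw [Equiv.permCongr_apply]
    exact congrArg e (Fin.ext (hσx q q.2))
  refine ⟨⟨fun x y => ?_⟩, fun x => ?_⟩
  · obtain ⟨g, hg, hgx⟩ := hbase x
    obtain ⟨g', hg', hgy⟩ := hbase y
    refine ⟨⟨g'⁻¹ * g, mul_mem (inv_mem hg') hg⟩, DFunLike.ext _ _ fun q => ?_⟩
    show g'⁻¹ (g (x q)) = y q
    rw [hgx, ← hgy]
    exact g'.symm_apply_apply _
  · rw [Subgroup.eq_bot_iff_forall]
    rintro ⟨g, hg⟩ hgx
    obtain ⟨h, hh, hhx⟩ := hbase x
    have hconj : ∀ q : Fin t, (h * g * h⁻¹) (e (Fin.castLE (by omega) q)) = e (Fin.castLE (by omega) q) := by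
      intro q
      rw [← hhx q]
      show h (g (h.symm (h (x q)))) = h (x q)
      rw [h.symm_apply_apply, show g (x q) = x q from DFunLike.congr_fun (MulAction.mem_stabilizer_iff.mp hgx) q]
    have h1 := eq_one_of_fix_first hr hK hmodel h0 htn (hdown _ (mul_mem (mul_mem hh hg) (inv_mem hh)))
      fun q hq => by
        rw [Equiv.permCongr_apply, Equiv.symm_symm, show q = Fin.castLE (by omega) (⟨q, hq⟩ : Fin t) from rfl, hconj]
        exact e.symm_apply_apply _
    have h2 : h * g * h⁻¹ = 1 := Equiv.ext fun a => by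
      have := DFunLike.congr_fun h1 (e.symm a)
      simpa using this
    exact Subtype.ext (conj_eq_one_iff.mp h2)

theorem ok11 : chainOK 11 4 [] chain11 = true := by decide +kernel

theorem ok12 : chainOK 12 5 [] chain12 = true := by decide +kernel

theorem full11 : fullOK 11 4 66 (final [] chain11) = true := by decide +kernel

theorem full12 : fullOK 12 5 132 (final [] chain12) = true := by decide +kernel

theorem moves11_ok : movesOK 11 (final [] chain11) moves11 = true := by decide +kernel

theorem moves12_ok : movesOK 12 (final [] chain12) moves12 = true := by decide +kernel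

theorem rigid11 : rigidOK 11 4 (final [] chain11) = true := by decide +kernel

theorem rigid12 : rigidOK 12 5 (final [] chain12) = true := by decide +kernel

theorem first11 : 2 ^ (4 + 1) - 1 ∈ final [] chain11 := by decide +kernel

theorem first12 : 2 ^ (5 + 1) - 1 ∈ final [] chain12 := by decide +kernel

end Cfsg.Lib.SteinerChain
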