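import Cfsg.Agent.Steiner.Counting

/-!
Blocks meeting a block in a given set; the two graphs of a Steiner system S(3, 6, 22).
-/

namespace Cfsg.Lib.Steiner

open Cfsg Finset

variable {α : Type*} [Fintype α] [DecidableEq α] {t k : ℕ} {B : Set (Finset α)}

/-- Number of blocks other than `b` meeting it exactly in `s`. -/
noncomputable def exactCount (B : Set (Finset α)) (b s : Finset α) : ℕ :=
  (((blocks B).erase b).filter fun c => b ∩ c = s).card

theorem exactCount_big (hB : IsSteinerSystem t k B) {b s : Finset α} (hb : b ∈ B) (hs : t ≤ s.card) :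
    exactCount B b s = 0 := by
  rw [exactCount, card_eq_zero, filter_eq_empty_iff]
  intro c hc he
  rw [mem_erase, mem_blocks] at hc
  exact hc.1 (eq_of_le_inter hB hb hc.2 (he ▸ hs)).symm

theorem through_eq_sum {b s : Finset α} (hb : b ∈ B) (hs : s ⊆ b) :
    ((blocks B).filter (s ⊆ ·)).card
      = 1 + ∑ i ∈ range ((b \ s).card + 1), ∑ u ∈ (b \ s).powersetCard i, exactCount B b (s ∪ u) := by
  classical
  rw [← Finset.sum_powerset]
  have hmem : b ∈ (blocks B).filter (s ⊆ ·) := mem_filter.mpr ⟨mem_blocks.mpr hb, hs⟩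
  rw [← card_erase_add_one hmem, add_comm, ← filter_erase]
  congr 1
  rw [Finset.card_eq_sum_card_fiberwise (f := fun c => (b ∩ c) \ s) (t := (b \ s).powerset)
    (fun c _ => mem_powerset.mpr (Finset.sdiff_subset_sdiff inter_subset_left le_rfl))]
  refine Finset.sum_congr rfl fun u hu => ?_
  rw [exactCount]
  congr 1
  ext c
  simp only [mem_filter, mem_erase, mem_blocks]
  rw [mem_powerset] at hu
  have hdis : Disjoint s u := Finset.disjoint_left.mpr fun x hx hxu => (mem_sdiff.mp (hu hxu)).2 hx
  constructor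
  · rintro ⟨⟨h1, hsc⟩, he⟩
    refine ⟨h1, ?_⟩
    rw [← he, union_sdiff_of_subset (subset_inter hs hsc)]
  · rintro ⟨h1, he⟩
    refine ⟨⟨h1, fun x hx => (mem_inter.mp (he ▸ mem_union_left u hx : x ∈ b ∩ c)).2⟩, ?_⟩
    rw [he, union_sdiff_cancel_left hdis]

theorem ncard_exact (hB : IsSteinerSystem t k B) {b s : Finset α} (hs : s.card ≠ k) (hb : b ∈ B) :
    {c : Finset α | c ∈ B ∧ b ∩ c = s}.ncard = exactCount B b s := by
  rw [exactCount, ← Set.ncard_coe_finset]
  congr 1
  ext c
  simp only [coe_filter, mem_erase, mem_blocks, Set.mem_ofPred_eq]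
  exact ⟨fun h => ⟨⟨fun e => hs (by rw [← h.2, e, inter_self, hB.1 b hb]), h.1⟩, h.2⟩, fun h => ⟨h.1.2, h.2⟩⟩

theorem exact_s5612 (hα : Fintype.card α = 12) (hB : IsSteinerSystem 5 6 B) {b : Finset α} (hb : b ∈ B)
    {s : Finset α} (hs : s ⊆ b) :
    (s.card = 4 → exactCount B b s = 3) ∧ (s.card = 3 → exactCount B b s = 2) ∧ (s.card = 2 → exactCount B b s = 3) := by
  classical
  have hb6 := hB.1 b hb
  have hbig : ∀ (s : Finset α) i, 5 ≤ s.card + i → ∀ u ∈ (b \ s).powersetCard i, exactCount B b (s ∪ u) = 0 :=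
    fun s i h u hu => exactCount_big hB hb (by
      obtain ⟨h1, h2⟩ := mem_powersetCard.mp hu
      rw [card_union_of_disjoint (Finset.disjoint_left.mpr fun x hx hxu => (mem_sdiff.mp (h1 hxu)).2 hx), h2]
      exact h)
  have hcard : ∀ (s : Finset α) i, ∀ u ∈ (b \ s).powersetCard i, (s ∪ u).card = s.card + i := fun s i u hu => by
    obtain ⟨h1, h2⟩ := mem_powersetCard.mp hu
    rw [card_union_of_disjoint (Finset.disjoint_left.mpr fun x hx hxu => (mem_sdiff.mp (h1 hxu)).2 hx), h2]
  have hsub : ∀ (s : Finset α), s ⊆ b → ∀ i, ∀ u ∈ (b \ s).powersetCard i, s ∪ u ⊆ b := fun s hs i u hu =>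
    union_subset hs ((mem_powersetCard.mp hu).1.trans sdiff_subset)
  have h4 : ∀ s : Finset α, s ⊆ b → s.card = 4 → exactCount B b s = 3 := by
    intro s hs hc
    have h := card_blocks_through hB (s := s) (by omega)
    have e : (b \ s).card = 2 := by rw [card_sdiff_of_subset hs]; omega
    rw [through_eq_sum hb hs, e, hc, hα] at h
    simp only [sum_range_succ, sum_range_zero] at h
    rw [Finset.sum_eq_zero (hbig s 1 (by omega)), Finset.sum_eq_zero (hbig s 2 (by omega))] at h
    norm_num [Nat.choose] at h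
    omega
  have h3 : ∀ s : Finset α, s ⊆ b → s.card = 3 → exactCount B b s = 2 := by
    intro s hs hc
    have h := card_blocks_through hB (s := s) (by omega)
    have e : (b \ s).card = 3 := by rw [card_sdiff_of_subset hs]; omega
    rw [through_eq_sum hb hs, e, hc, hα] at h
    simp only [sum_range_succ, sum_range_zero] at h
    rw [Finset.sum_congr rfl (g := fun _ => 3) (s₁ := (b \ s).powersetCard 1)
        fun u hu => h4 _ (hsub s hs 1 u hu) (by rw [hcard s 1 u hu, hc]),
      Finset.sum_eq_zero (hbig s 2 (by omega)), Finset.sum_eq_zero (hbig s 3 (by omega))] at h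
    norm_num [Nat.choose, e] at h
    omega
  refine ⟨h4 s hs, h3 s hs, fun hc => ?_⟩
  have h := card_blocks_through hB (s := s) (by omega)
  have e : (b \ s).card = 4 := by rw [card_sdiff_of_subset hs]; omega
  rw [through_eq_sum hb hs, e, hc, hα] at h
  simp only [sum_range_succ, sum_range_zero] at h
  rw [Finset.sum_congr rfl (g := fun _ => 2) (s₁ := (b \ s).powersetCard 1)
      fun u hu => h3 _ (hsub s hs 1 u hu) (by rw [hcard s 1 u hu, hc]),
    Finset.sum_congr rfl (g := fun _ => 3) (s₁ := (b \ s).powersetCard 2)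
      fun u hu => h4 _ (hsub s hs 2 u hu) (by rw [hcard s 2 u hu, hc]),
    Finset.sum_eq_zero (hbig s 3 (by omega)), Finset.sum_eq_zero (hbig s 4 (by omega))] at h
  norm_num [Nat.choose, e] at h
  omega

/-- Two blocks and the number of blocks disjoint from both. -/
theorem disjoint_both (hα : Fintype.card α = 22) (hB : IsSteinerSystem 3 6 B) {b c : Finset α} (hb : b ∈ B)
    (hc : c ∈ B) (hbc : b ≠ c) :
    ((b ∩ c).card = 0 → ((blocks B).filter fun d => Disjoint b d ∧ Disjoint c d).card = 0) ∧
      ((b ∩ c).card ≠ 0 → (b ∩ c).card = 2 ∧ ((blocks B).filter fun d => Disjoint b d ∧ Disjoint c d).card = 4) := by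
  classical
  have hb6 := hB.1 b hb
  have hc6 := hB.1 c hc
  have hint : ∀ {x y : Finset α}, x ∈ B → y ∈ B → x ≠ y → (x ∩ y).card = 0 ∨ (x ∩ y).card = 2 := by
    intro x y hx hy hxy
    obtain ⟨-, e1, -⟩ := meet_s3622 hα hB hx
    have := meetCount_eq_zero hy hxy.symm e1
    have : (x ∩ y).card < 3 := by
      by_contra h; exact hxy (eq_of_le_inter hB hx hy (by omega))
    omega
  set S := b ∪ c with hS
  have hScard : S.card + (b ∩ c).card = 12 := by rw [hS, card_union_add_card_inter, hb6, hc6]
  set rest := ((blocks B).erase b).erase c with hrest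
  have hsplit : ∀ j, ∑ d ∈ blocks B, (S ∩ d).card.choose j
      = Nat.choose 6 j + Nat.choose 6 j + ∑ d ∈ rest, (S ∩ d).card.choose j := fun j => by
    rw [← Finset.add_sum_erase _ _ (mem_blocks.mpr hb), ← Finset.add_sum_erase _ _
      (mem_erase.mpr ⟨hbc.symm, mem_blocks.mpr hc⟩), ← add_assoc,
      inter_eq_right.mpr (subset_union_left : b ⊆ S), inter_eq_right.mpr (subset_union_right : c ⊆ S), hb6, hc6]
  have hk : ∀ d ∈ rest, (S ∩ d).card ∈ ({0, 2, 3, 4} : Finset ℕ) := by
    intro d hd
    simp only [hrest, mem_erase, mem_blocks] at hd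
    have h1 := hint hb hd.2.2 (Ne.symm hd.2.1)
    have h2 := hint hc hd.2.2 (Ne.symm hd.1)
    have e : S ∩ d = (b ∩ d) ∪ (c ∩ d) := union_inter_distrib_right _ _ _
    have h3 := card_union_add_card_inter (b ∩ d) (c ∩ d)
    rw [← e] at h3
    have h4 : ((b ∩ d) ∩ (c ∩ d)).card ≤ (b ∩ d).card := card_le_card inter_subset_left
    have h5 : ((b ∩ d) ∩ (c ∩ d)).card ≤ (c ∩ d).card := card_le_card inter_subset_right
    simp only [mem_insert, mem_singleton]
    omega
  have hfib : ∀ j, ∑ d ∈ rest, (S ∩ d).card.choose j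
      = ∑ i ∈ range 5, (rest.filter fun d => (S ∩ d).card = i).card * i.choose j := fun j => by
    rw [← Finset.sum_fiberwise_of_maps_to (t := range 5) (g := fun d => (S ∩ d).card) fun d hd => by
      have := hk d hd; simp only [mem_insert, mem_singleton] at this; exact mem_range.mpr (by omega)]
    refine Finset.sum_congr rfl fun i _ => ?_
    rw [Finset.sum_congr rfl fun d hd => by rw [(mem_filter.mp hd).2], Finset.sum_const, smul_eq_mul]
  have hn0 : (rest.filter fun d => (S ∩ d).card = 0) = (blocks B).filter fun d => Disjoint b d ∧ Disjoint c d := by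
    ext d
    simp only [hrest, mem_filter, mem_erase, mem_blocks, card_eq_zero, hS, ← disjoint_iff_inter_eq_empty,
      disjoint_union_left]
    refine ⟨fun h => ⟨h.1.2.2, h.2⟩, fun ⟨h, h1, h2⟩ => ⟨⟨fun e => ?_, fun e => ?_, h⟩, h1, h2⟩⟩
    · subst e; rw [disjoint_self] at h2; rw [h2] at hc6; simp at hc6
    · subst e; rw [disjoint_self] at h1; rw [h1] at hb6; simp at hb6
  have e0 := sum_choose_inter hB S (j := 0) (by norm_num)
  have e1 := sum_choose_inter hB S (j := 1) (by norm_num)
  have e2 := sum_choose_inter hB S (j := 2) (by norm_num)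
  have e3 := sum_choose_inter hB S (j := 3) (by norm_num)
  have hn1 : (rest.filter fun d => (S ∩ d).card = 1).card = 0 := by
    rw [card_eq_zero, filter_eq_empty_iff]
    intro d hd h1
    have := hk d hd
    simp [h1] at this
  simp only [hsplit, hfib, hα, sum_range_succ, sum_range_zero] at e0 e1 e2 e3
  rw [hn0] at e0
  norm_num [Nat.choose, hn1] at e0 e1 e2 e3
  rcases hint hb hc hbc with h | h
  · refine ⟨fun _ => ?_, fun h' => absurd h h'⟩
    rw [show S.card = 12 by omega] at e1 e2 e3
    norm_num [Nat.choose] at e1 e2 e3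
    omega
  · refine ⟨fun h' => absurd h' (by omega), fun _ => ⟨h, ?_⟩⟩
    rw [show S.card = 10 by omega] at e1 e2 e3
    norm_num [Nat.choose] at e1 e2 e3
    omega

theorem ncard_subtype_blocks (P : Finset α → Prop) [DecidablePred P] :
    {d : B | P d.1}.ncard = ((blocks B).filter P).card := by
  rw [← Set.ncard_image_of_injective _ Subtype.val_injective, ← Set.ncard_coe_finset]
  congr 1
  ext d
  simp [and_comm]

theorem card_blocks_22 (hα : Fintype.card α = 22) (hB : IsSteinerSystem 3 6 B) : B.ncard = 77 := by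
  have h := ncard_blocks hB
  rw [hα] at h
  norm_num [Nat.choose] at h
  omega

theorem blockGraph_adj (hB : IsSteinerSystem t k B) (hk : k ≠ 0) (b c : B) :
    (blockGraph B).Adj b c ↔ Disjoint b.1 c.1 := by
  rw [blockGraph, SimpleGraph.fromRel_adj]
  refine ⟨fun h => h.2.elim id fun h' => h'.symm, fun h => ⟨fun e => ?_, Or.inl h⟩⟩
  subst e
  rw [disjoint_self] at h
  have := hB.1 b.1 b.2
  rw [h] at this
  exact hk (by simpa using this.symm)

theorem srg77 (hα : Fintype.card α = 22) (hB : IsSteinerSystem 3 6 B) [Fintype B]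
    [DecidableRel (blockGraph B).Adj] : (blockGraph B).IsSRGWith 77 16 0 4 := by
  classical
  have hadj := blockGraph_adj hB (by norm_num : (6 : ℕ) ≠ 0)
  have hcn : ∀ b c : B, Fintype.card ((blockGraph B).commonNeighbors b c)
      = ((blocks B).filter fun d => Disjoint b.1 d ∧ Disjoint c.1 d).card := fun b c => by
    rw [← Nat.card_eq_fintype_card, Nat.card_coe_set_eq, ← ncard_subtype_blocks]
    congr 1
    ext d
    simp [SimpleGraph.mem_commonNeighbors, hadj]
  constructor
  · rw [← Nat.card_eq_fintype_card, Nat.card_coe_set_eq, card_blocks_22 hα hB]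
  · intro b
    rw [← SimpleGraph.card_neighborSet_eq_degree, ← Nat.card_eq_fintype_card, Nat.card_coe_set_eq,
      show (blockGraph B).neighborSet b = {d : B | Disjoint b.1 d.1} by ext d; simp [hadj],
      ncard_subtype_blocks (fun d => Disjoint b.1 d), ← (meet_s3622 hα hB b.2).1, meetCount]
    congr 1
    ext d
    simp only [mem_filter, mem_erase, mem_blocks, card_eq_zero, ← disjoint_iff_inter_eq_empty]
    refine ⟨fun h => ⟨⟨fun e => ?_, h.1⟩, h.2⟩, fun h => ⟨h.1.2, h.2⟩⟩
    have := h.2; rw [e, disjoint_self] at this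
    have h6 := hB.1 b.1 b.2; rw [this] at h6; simp at h6
  · intro b c h
    rw [hadj, disjoint_iff_inter_eq_empty, ← card_eq_zero] at h
    rw [hcn, (disjoint_both hα hB b.2 c.2 fun e => by
      rw [e, inter_self, hB.1 c.1 c.2] at h; exact absurd h (by norm_num)).1 h]
  · intro b c hne h
    rw [hadj, disjoint_iff_inter_eq_empty, ← card_eq_zero] at h
    rw [hcn, ((disjoint_both hα hB b.2 c.2 fun e => hne (Subtype.ext e)).2 h).2]

open scoped Classical in
theorem card_option_sum {ι κ : Type*} [Fintype ι] [Fintype κ] (S : Set (Option (ι ⊕ κ))) :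
    S.ncard = (if none ∈ S then 1 else 0) + {a : ι | some (Sum.inl a) ∈ S}.ncard
      + {b : κ | some (Sum.inr b) ∈ S}.ncard := by
  classical
  simp only [Set.ncard_eq_toFinset_card', Set.toFinset_ofPred, Finset.card_filter, Fintype.sum_option,
    Fintype.sum_sum_type]
  rw [show S.toFinset = univ.filter (· ∈ S) by ext; simp, Finset.card_filter, Fintype.sum_option, Fintype.sum_sum_type]
  ring

theorem through_22 (hα : Fintype.card α = 22) (hB : IsSteinerSystem 3 6 B) (a : α) :
    ((blocks B).filter (a ∈ ·)).card = 21 := by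
  have h := card_blocks_through hB (s := {a}) (by simp)
  simp only [card_singleton, singleton_subset_iff, hα] at h
  norm_num [Nat.choose] at h
  omega

theorem through_two_22 (hα : Fintype.card α = 22) (hB : IsSteinerSystem 3 6 B) {a b : α} (hab : a ≠ b) :
    ((blocks B).filter fun d => a ∈ d ∧ b ∈ d).card = 5 := by
  have h := card_blocks_through hB (s := {a, b}) (by rw [card_pair hab]; norm_num)
  simp only [card_pair hab, hα, insert_subset_iff, singleton_subset_iff] at h
  norm_num [Nat.choose] at h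
  omega

theorem through_disjoint_22 (hα : Fintype.card α = 22) (hB : IsSteinerSystem 3 6 B) {a : α} {b : Finset α}
    (hb : b ∈ B) (hab : a ∉ b) : ((blocks B).filter fun d => a ∈ d ∧ Disjoint b d).card = 6 := by
  classical
  -- blocks through the point meet `b` in a pair or not at all
  have h21 := through_22 hα hB a
  have hsplit := Finset.card_filter_add_card_filter_not (s := (blocks B).filter (a ∈ ·)) (fun d => Disjoint b d)
  rw [h21, filter_filter, filter_filter] at hsplit
  have h15 : ((blocks B).filter fun d => a ∈ d ∧ ¬ Disjoint b d).card = (b.powersetCard 2).card := by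
    refine Finset.card_bij (fun d _ => b ∩ d) (fun d hd => ?_) (fun d hd d' hd' he => ?_) (fun u hu => ?_)
    · simp only [mem_filter, mem_blocks] at hd
      rw [mem_powersetCard]
      refine ⟨inter_subset_left, ?_⟩
      obtain ⟨-, e1, -⟩ := meet_s3622 hα hB hb
      have hne : b ≠ d := fun e => hab (e ▸ hd.2.1)
      have := meetCount_eq_zero hd.1 hne.symm e1
      have : (b ∩ d).card < 3 := by
        by_contra h; exact hne (eq_of_le_inter hB hb hd.1 (by omega))
      have : (b ∩ d).card ≠ 0 := fun e => hd.2.2 (disjoint_iff_inter_eq_empty.mpr (card_eq_zero.mp e))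
      omega
    · simp only [mem_filter, mem_blocks] at hd hd'
      have hu : (b ∩ d).card = 2 := by
        obtain ⟨-, e1, -⟩ := meet_s3622 hα hB hb
        have hne : b ≠ d := fun e => hab (e ▸ hd.2.1)
        have := meetCount_eq_zero hd.1 hne.symm e1
        have : (b ∩ d).card < 3 := by
          by_contra h; exact hne (eq_of_le_inter hB hb hd.1 (by omega))
        have : (b ∩ d).card ≠ 0 := fun e => hd.2.2 (disjoint_iff_inter_eq_empty.mpr (card_eq_zero.mp e))
        omega
      refine (hB.2 (insert a (b ∩ d)) ?_).unique ⟨hd.1, insert_subset hd.2.1 inter_subset_right⟩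
        ⟨hd'.1, insert_subset hd'.2.1 (he ▸ inter_subset_right)⟩
      rw [card_insert_of_notMem fun h => hab (mem_inter.mp h).1, hu]
    · rw [mem_powersetCard] at hu
      have hau : a ∉ u := fun h => hab (hu.1 h)
      obtain ⟨d, ⟨hd, hsub⟩, -⟩ := hB.2 (insert a u) (by rw [card_insert_of_notMem hau, hu.2])
      rw [insert_subset_iff] at hsub
      have hsub' : u ⊆ b ∩ d := subset_inter hu.1 hsub.2
      refine ⟨d, ?_, ?_⟩
      · simp only [mem_filter, mem_blocks]
        refine ⟨hd, hsub.1, fun h => ?_⟩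
        have := card_le_card hsub'
        rw [disjoint_iff_inter_eq_empty.mp h, hu.2] at this
        simp at this
      · refine (eq_of_subset_of_card_le hsub' ?_).symm
        rw [hu.2]
        by_contra h
        exact hab (eq_of_le_inter hB hb hd (by omega) ▸ hsub.1)
  rw [h15, card_powersetCard, hB.1 b hb] at hsplit
  norm_num [Nat.choose] at hsplit
  omega

theorem srg100 (hα : Fintype.card α = 22) (hB : IsSteinerSystem 3 6 B) [Fintype B]
    [DecidableRel (pointBlockGraph B).Adj] : (pointBlockGraph B).IsSRGWith 100 22 0 6 := by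
  classical
  have hnd : ∀ b : B, ¬ Disjoint b.1 b.1 := fun b h => by
    rw [disjoint_self] at h
    have h6 := hB.1 b.1 b.2; rw [h] at h6; simp at h6
  -- adjacency, case by case
  have g1 : ∀ a, (pointBlockGraph B).Adj none (some (Sum.inl a)) := fun a => by
    rw [pointBlockGraph, SimpleGraph.fromRel_adj]; simp [pointBlockRel]
  have g2 : ∀ b, ¬ (pointBlockGraph B).Adj none (some (Sum.inr b)) := fun b => by
    rw [pointBlockGraph, SimpleGraph.fromRel_adj]; simp [pointBlockRel]
  have g3 : ∀ a a', ¬ (pointBlockGraph B).Adj (some (Sum.inl a)) (some (Sum.inl a')) := fun a a' => by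
    rw [pointBlockGraph, SimpleGraph.fromRel_adj]; simp [pointBlockRel]
  have g4 : ∀ a (b : B), (pointBlockGraph B).Adj (some (Sum.inl a)) (some (Sum.inr b)) ↔ a ∈ b.1 := fun a b => by
    rw [pointBlockGraph, SimpleGraph.fromRel_adj]; simp [pointBlockRel]
  have g5 : ∀ b c : B, (pointBlockGraph B).Adj (some (Sum.inr b)) (some (Sum.inr c)) ↔ Disjoint b.1 c.1 := fun b c => by
    rw [pointBlockGraph, SimpleGraph.fromRel_adj]
    simp only [pointBlockRel, ne_eq, Option.some.injEq, Sum.inr.injEq]
    exact ⟨fun h => h.2.elim id fun h' => h'.symm, fun h => ⟨fun e => hnd c (e ▸ h), Or.inl h⟩⟩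
  have gs : ∀ x y, (pointBlockGraph B).Adj x y ↔ (pointBlockGraph B).Adj y x := fun x y => (pointBlockGraph B).adj_comm x y
  have hpts : ∀ b : B, {a : α | a ∈ b.1}.ncard = 6 := fun b => by
    rw [show {a : α | a ∈ b.1} = (b.1 : Set α) from rfl, Set.ncard_coe_finset, hB.1 b.1 b.2]
  have hpts2 : ∀ b c : B, {a : α | a ∈ b.1 ∧ a ∈ c.1}.ncard = (b.1 ∩ c.1).card := fun b c => by
    rw [← Set.ncard_coe_finset]; congr 1; ext; simp
  have hdeg : ∀ x, ((pointBlockGraph B).neighborSet x).ncard = 22 := by
    intro x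
    rw [card_option_sum]
    rcases x with _ | a | b
    · simp [g1, g2, Set.ncard_univ, Nat.card_eq_fintype_card, hα]
    · simp [gs _ none, g1, g3, g4, ncard_subtype_blocks (fun d => a ∈ d), through_22 hα hB a]
    · simp [gs _ none, g2, gs (some (Sum.inr b)) (some (Sum.inl _)), g4, g5, hpts,
        ncard_subtype_blocks (fun d => Disjoint b.1 d)]
      have h := (meet_s3622 hα hB b.2).1
      rw [meetCount] at h
      rw [show ((blocks B).filter fun d => Disjoint b.1 d) = ((blocks B).erase b.1).filter fun c => (b.1 ∩ c).card = 0 by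
        ext d
        simp only [mem_filter, mem_erase, mem_blocks, card_eq_zero, ← disjoint_iff_inter_eq_empty]
        exact ⟨fun h => ⟨⟨fun e => hnd b (e ▸ h.2), h.1⟩, h.2⟩, fun h => ⟨h.1.2, h.2⟩⟩, h, hB.1 b.1 b.2]
  have hcn : ∀ x y, Fintype.card ((pointBlockGraph B).commonNeighbors x y) = ((pointBlockGraph B).commonNeighbors x y).ncard := fun x y => by
    rw [← Nat.card_eq_fintype_card, Nat.card_coe_set_eq]
  refine ⟨?_, ?_, ?_, ?_⟩
  · rw [Fintype.card_option, Fintype.card_sum, hα, ← Nat.card_eq_fintype_card, Nat.card_coe_set_eq, card_blocks_22 hα hB]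
  · intro x
    rw [← SimpleGraph.card_neighborSet_eq_degree, ← Nat.card_eq_fintype_card, Nat.card_coe_set_eq, hdeg]
  · intro x y h
    rw [hcn, Set.ncard_eq_zero]
    refine Set.eq_empty_iff_forall_notMem.mpr fun z hz => ?_
    rw [SimpleGraph.mem_commonNeighbors] at hz
    obtain ⟨hxz, hyz⟩ := hz
    rcases x with _ | a | b <;> rcases y with _ | a' | b' <;> rcases z with _ | a'' | b'' <;>
      simp only [g1, g2, g3, g4, g5, gs (some (Sum.inl _)) none, gs (some (Sum.inr _)) none,
        gs (some (Sum.inr _)) (some (Sum.inl _)), SimpleGraph.irrefl] at h hxz hyz <;>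
      first
        | exact Finset.disjoint_left.mp ‹Disjoint _ _› ‹_ ∈ _› ‹_ ∈ _›
        | skip
    all_goals first
      | exact Finset.disjoint_left.mp hyz h hxz
      | exact Finset.disjoint_left.mp hxz h hyz
      | exact Finset.disjoint_left.mp h hxz hyz
      | (have h0 := ((disjoint_both hα hB b.2 b'.2 fun e => hnd b' (e ▸ h)).1 (by
          rw [card_eq_zero, ← disjoint_iff_inter_eq_empty]; exact h))
         rw [card_eq_zero, filter_eq_empty_iff] at h0
         exact h0 (mem_blocks.mpr b''.2) ⟨hxz, hyz⟩)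
  · intro x y hne h
    rw [hcn, card_option_sum]
    rcases x with _ | a | b <;> rcases y with _ | a' | b' <;>
      simp only [g1, g2, g3, g4, g5, gs (some (Sum.inl _)) none, gs (some (Sum.inr _)) none,
        gs (some (Sum.inr _)) (some (Sum.inl _)), SimpleGraph.irrefl, SimpleGraph.mem_commonNeighbors, not_true,
        not_false_iff] at h ⊢
    · exact absurd rfl hne
    · simp [hB.1 _ (Subtype.mem _)]
    · rw [ncard_subtype_blocks (fun d => a ∈ d ∧ a' ∈ d), through_two_22 hα hB fun (e : a = a') => hne (by rw [e])]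
      simp
    · rw [ncard_subtype_blocks (fun d => a ∈ d ∧ Disjoint b'.1 d), through_disjoint_22 hα hB b'.2 h]
      simp
    · simp [hB.1 _ (Subtype.mem _)]
    · rw [ncard_subtype_blocks (fun d => Disjoint b.1 d ∧ a' ∈ d)]
      simp only [and_comm (a := Disjoint b.1 _), through_disjoint_22 hα hB b.2 h]
      simp
    · rw [hpts2, ncard_subtype_blocks (fun d => Disjoint b.1 d ∧ Disjoint b'.1 d)]
      rw [disjoint_iff_inter_eq_empty, ← card_eq_zero] at h
      obtain ⟨e, e4⟩ := (disjoint_both hα hB b.2 b'.2 fun e => hne (congrArg (some ∘ Sum.inr) (Subtype.ext e))).2 h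
      simp [e, e4]

end Cfsg.Lib.Steiner
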