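import Mathlib

/-!
Canonical chains for the Steiner systems S(4, 5, 11) and S(5, 6, 12), with automorphisms.
-/

namespace Cfsg.Lib.SteinerChain

/-- The chain for `S(4, 5, 11)`. -/
def chain11 : List (ℕ × ℕ × List (ℕ × List ℕ)) := [
  (15, 4, [(4, [0, 1, 2, 3, 4, 5, 6, 7, 8, 9, 10]), (5, [0, 1, 2, 3, 5, 4, 6, 7, 8, 9, 10]), (6, [0, 1, 2, 3, 5, 6, 4, 7, 8, 9, 10]), (7, [0, 1, 2, 3, 5, 6, 7, 4, 8, 9, 10]), (8, [0, 1, 2, 3, 5, 6, 7, 8, 4, 9, 10]), (9, [0, 1, 2, 3, 5, 6, 7, 8, 9, 4, 10]), (10, [0, 1, 2, 3, 5, 6, 7, 8, 9, 10, 4])]),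
  (39, 6, [(6, [0, 1, 2, 3, 4, 5, 6, 7, 8, 9, 10]), (7, [0, 1, 2, 3, 4, 5, 7, 6, 8, 9, 10]), (8, [0, 1, 2, 3, 4, 5, 7, 8, 6, 9, 10]), (9, [0, 1, 2, 3, 4, 5, 7, 8, 9, 6, 10]), (10, [0, 1, 2, 3, 4, 5, 7, 8, 9, 10, 6])]),
  (135, 8, [(8, [0, 1, 2, 3, 4, 5, 6, 7, 8, 9, 10]), (9, [0, 1, 2, 3, 4, 5, 6, 7, 9, 8, 10]), (10, [0, 1, 2, 3, 4, 5, 6, 7, 9, 10, 8])]),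
  (519, 10, [(10, [0, 1, 2, 3, 4, 5, 6, 7, 8, 9, 10])]),
  (43, 7, [(7, [0, 1, 2, 3, 4, 5, 6, 7, 8, 9, 10]), (8, [0, 1, 2, 3, 4, 5, 6, 8, 7, 9, 10]), (9, [0, 1, 2, 3, 4, 5, 6, 9, 10, 7, 8]), (10, [0, 1, 2, 3, 4, 5, 6, 9, 10, 8, 7])]),
  (523, 6, [(6, [0, 1, 2, 3, 4, 5, 6, 7, 8, 9, 10]), (8, [0, 1, 2, 3, 4, 7, 8, 5, 6, 9, 10])]),
  (267, 10, [(10, [0, 1, 2, 3, 4, 5, 6, 7, 8, 9, 10])]),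
  (1059, 4, [(4, [0, 1, 2, 3, 4, 5, 6, 7, 8, 9, 10])]),
  (291, 9, [(9, [0, 1, 2, 3, 4, 5, 6, 7, 8, 9, 10])]),
  (275, 6, [(6, [0, 1, 2, 3, 4, 5, 6, 7, 8, 9, 10])]),
  (147, 9, [(9, [0, 1, 2, 3, 4, 5, 6, 7, 8, 9, 10])]),
  (195, 10, [(10, [0, 1, 2, 3, 4, 5, 6, 7, 8, 9, 10])]),
  (45, 8, [(8, [0, 1, 2, 3, 4, 5, 6, 7, 8, 9, 10]), (9, [0, 1, 2, 3, 4, 8, 7, 10, 9, 5, 6]), (10, [0, 1, 2, 8, 7, 3, 4, 10, 9, 6, 5])]),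
  (525, 7, [(7, [0, 1, 2, 3, 4, 5, 6, 7, 8, 9, 10])]),
  (77, 10, [(10, [0, 1, 2, 3, 4, 5, 6, 7, 8, 9, 10])]),
  (549, 4, [(4, [0, 1, 2, 3, 4, 5, 6, 7, 8, 9, 10])]),
  (85, 7, [(7, [0, 1, 2, 3, 4, 5, 6, 7, 8, 9, 10])]),
  (277, 10, [(10, [0, 1, 2, 3, 4, 5, 6, 7, 8, 9, 10])]),
  (165, 10, [(10, [0, 1, 2, 3, 4, 5, 6, 7, 8, 9, 10])]),
  (325, 9, [(9, [0, 1, 2, 3, 4, 5, 6, 7, 8, 9, 10])]),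
  (57, 6, [(6, [0, 1, 2, 3, 4, 5, 6, 7, 8, 9, 10])]),
  (553, 10, [(10, [0, 1, 2, 3, 4, 5, 6, 7, 8, 9, 10])]),
  (537, 8, [(8, [0, 1, 2, 3, 4, 5, 6, 7, 8, 9, 10])]),
  (153, 10, [(10, [0, 1, 2, 3, 4, 5, 6, 7, 8, 9, 10])]),
  (201, 8, [(8, [0, 1, 2, 3, 4, 5, 6, 7, 8, 9, 10])]),
  (177, 8, [(8, [0, 1, 2, 3, 4, 5, 6, 7, 8, 9, 10])]),
  (593, 10, [(10, [0, 1, 2, 3, 4, 5, 6, 7, 8, 9, 10])]),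
  (225, 9, [(9, [0, 1, 2, 3, 4, 5, 6, 7, 8, 9, 10])]),
  (353, 10, [(10, [0, 1, 2, 3, 4, 5, 6, 7, 8, 9, 10])]),
  (897, 10, [(10, [0, 1, 2, 3, 4, 5, 6, 7, 8, 9, 10])]),
  (46, 9, [(9, [0, 1, 2, 3, 4, 5, 6, 7, 8, 9, 10]), (10, [0, 1, 2, 5, 6, 3, 4, 7, 8, 10, 9])]),
  (270, 6, [(6, [0, 1, 2, 3, 4, 5, 6, 7, 8, 9, 10])]),
  (142, 10, [(10, [0, 1, 2, 3, 4, 5, 6, 7, 8, 9, 10])]),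
  (150, 5, [(5, [0, 1, 2, 3, 4, 5, 6, 7, 8, 9, 10])]),
  (278, 9, [(9, [0, 1, 2, 3, 4, 5, 6, 7, 8, 9, 10])]),
  (86, 10, [(10, [0, 1, 2, 3, 4, 5, 6, 7, 8, 9, 10])]),
  (294, 10, [(10, [0, 1, 2, 3, 4, 5, 6, 7, 8, 9, 10])]),
  (198, 9, [(9, [0, 1, 2, 3, 4, 5, 6, 7, 8, 9, 10])]),
  (58, 8, [(8, [0, 1, 2, 3, 4, 5, 6, 7, 8, 9, 10])]),
  (90, 7, [(7, [0, 1, 2, 3, 4, 5, 6, 7, 8, 9, 10])]),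
  (538, 10, [(10, [0, 1, 2, 3, 4, 5, 6, 7, 8, 9, 10])]),
  (106, 10, [(10, [0, 1, 2, 3, 4, 5, 6, 7, 8, 9, 10])]),
  (394, 9, [(9, [0, 1, 2, 3, 4, 5, 6, 7, 8, 9, 10])]),
  (114, 9, [(9, [0, 1, 2, 3, 4, 5, 6, 7, 8, 9, 10])]),
  (402, 10, [(10, [0, 1, 2, 3, 4, 5, 6, 7, 8, 9, 10])]),
  (226, 8, [(8, [0, 1, 2, 3, 4, 5, 6, 7, 8, 9, 10])]),
  (674, 10, [(10, [0, 1, 2, 3, 4, 5, 6, 7, 8, 9, 10])]),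
  (834, 10, [(10, [0, 1, 2, 3, 4, 5, 6, 7, 8, 9, 10])]),
  (60, 10, [(10, [0, 1, 2, 3, 4, 5, 6, 7, 8, 9, 10])]),
  (92, 9, [(9, [0, 1, 2, 3, 4, 5, 6, 7, 8, 9, 10])]),
  (156, 8, [(8, [0, 1, 2, 3, 4, 5, 6, 7, 8, 9, 10])]),
  (108, 7, [(7, [0, 1, 2, 3, 4, 5, 6, 7, 8, 9, 10])]),
  (780, 10, [(10, [0, 1, 2, 3, 4, 5, 6, 7, 8, 9, 10])]),
  (116, 8, [(8, [0, 1, 2, 3, 4, 5, 6, 7, 8, 9, 10])]),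
  (660, 10, [(10, [0, 1, 2, 3, 4, 5, 6, 7, 8, 9, 10])]),
  (612, 10, [(10, [0, 1, 2, 3, 4, 5, 6, 7, 8, 9, 10])]),
  (420, 9, [(9, [0, 1, 2, 3, 4, 5, 6, 7, 8, 9, 10])]),
  (452, 10, [(10, [0, 1, 2, 3, 4, 5, 6, 7, 8, 9, 10])]),
  (184, 9, [(9, [0, 1, 2, 3, 4, 5, 6, 7, 8, 9, 10])]),
  (344, 10, [(10, [0, 1, 2, 3, 4, 5, 6, 7, 8, 9, 10])]),
  (360, 9, [(9, [0, 1, 2, 3, 4, 5, 6, 7, 8, 9, 10])]),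
  (424, 10, [(10, [0, 1, 2, 3, 4, 5, 6, 7, 8, 9, 10])]),
  (712, 10, [(10, [0, 1, 2, 3, 4, 5, 6, 7, 8, 9, 10])]),
  (240, 10, [(10, [0, 1, 2, 3, 4, 5, 6, 7, 8, 9, 10])]),
  (816, 10, [(10, [0, 1, 2, 3, 4, 5, 6, 7, 8, 9, 10])]),
  (464, 9, [(9, [0, 1, 2, 3, 4, 5, 6, 7, 8, 9, 10])])]

/-- Automorphisms fixing an initial segment and moving a point to the next place. -/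
def moves11 : List (List (List ℕ)) := [
  [[0, 1, 2, 3, 4, 5, 6, 7, 8, 9, 10], [1, 0, 2, 3, 4, 10, 9, 8, 7, 6, 5], [1, 2, 0, 3, 4, 9, 10, 5, 6, 7, 8], [1, 2, 3, 0, 4, 8, 6, 7, 10, 5, 9], [1, 2, 3, 4, 0, 6, 8, 10, 7, 9, 5], [1, 2, 3, 6, 8, 0, 4, 5, 9, 10, 7], [1, 2, 3, 8, 6, 4, 0, 9, 5, 7, 10], [1, 2, 3, 10, 7, 9, 5, 0, 4, 8, 6], [1, 2, 3, 7, 10, 5, 9, 4, 0, 6, 8], [1, 2, 3, 9, 5, 7, 10, 6, 8, 0, 4], [1, 2, 3, 5, 9, 10, 7, 8, 6, 4, 0]],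
  [[0, 1, 2, 3, 4, 5, 6, 7, 8, 9, 10], [0, 2, 1, 3, 4, 6, 5, 10, 9, 8, 7], [0, 2, 3, 1, 4, 7, 9, 8, 5, 10, 6], [0, 2, 3, 4, 1, 9, 7, 5, 8, 6, 10], [0, 2, 3, 9, 7, 1, 4, 10, 6, 5, 8], [0, 2, 3, 7, 9, 4, 1, 6, 10, 8, 5], [0, 2, 3, 5, 8, 6, 10, 1, 4, 7, 9], [0, 2, 3, 8, 5, 10, 6, 4, 1, 9, 7], [0, 2, 3, 6, 10, 8, 5, 9, 7, 1, 4], [0, 2, 3, 10, 6, 5, 8, 7, 9, 4, 1]],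
  [[0, 1, 2, 3, 4, 5, 6, 7, 8, 9, 10], [0, 1, 3, 2, 4, 10, 8, 9, 6, 7, 5], [0, 1, 3, 4, 2, 8, 10, 6, 9, 5, 7], [0, 1, 3, 8, 10, 2, 4, 7, 5, 6, 9], [0, 1, 3, 10, 8, 4, 2, 5, 7, 9, 6], [0, 1, 3, 6, 9, 5, 7, 2, 4, 10, 8], [0, 1, 3, 9, 6, 7, 5, 4, 2, 8, 10], [0, 1, 3, 5, 7, 9, 6, 8, 10, 2, 4], [0, 1, 3, 7, 5, 6, 9, 10, 8, 4, 2]],
  [[0, 1, 2, 3, 4, 5, 6, 7, 8, 9, 10], [0, 1, 2, 4, 3, 6, 5, 8, 7, 10, 9], [0, 1, 2, 6, 5, 3, 4, 9, 10, 8, 7], [0, 1, 2, 5, 6, 4, 3, 10, 9, 7, 8], [0, 1, 2, 8, 7, 10, 9, 3, 4, 5, 6], [0, 1, 2, 7, 8, 9, 10, 4, 3, 6, 5], [0, 1, 2, 10, 9, 7, 8, 6, 5, 3, 4], [0, 1, 2, 9, 10, 8, 7, 5, 6, 4, 3]]]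

/-- The chain for `S(5, 6, 12)`. -/
def chain12 : List (ℕ × ℕ × List (ℕ × List ℕ)) := [
  (31, 5, [(5, [0, 1, 2, 3, 4, 5, 6, 7, 8, 9, 10, 11]), (6, [0, 1, 2, 3, 4, 6, 5, 7, 8, 9, 10, 11]), (7, [0, 1, 2, 3, 4, 6, 7, 5, 8, 9, 10, 11]), (8, [0, 1, 2, 3, 4, 6, 7, 8, 5, 9, 10, 11]), (9, [0, 1, 2, 3, 4, 6, 7, 8, 9, 5, 10, 11]), (10, [0, 1, 2, 3, 4, 6, 7, 8, 9, 10, 5, 11]), (11, [0, 1, 2, 3, 4, 6, 7, 8, 9, 10, 11, 5])]),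
  (79, 7, [(7, [0, 1, 2, 3, 4, 5, 6, 7, 8, 9, 10, 11]), (8, [0, 1, 2, 3, 4, 5, 6, 8, 7, 9, 10, 11]), (9, [0, 1, 2, 3, 4, 5, 6, 8, 9, 7, 10, 11]), (10, [0, 1, 2, 3, 4, 5, 6, 8, 9, 10, 7, 11]), (11, [0, 1, 2, 3, 4, 5, 6, 8, 9, 10, 11, 7])]),
  (271, 9, [(9, [0, 1, 2, 3, 4, 5, 6, 7, 8, 9, 10, 11]), (10, [0, 1, 2, 3, 4, 5, 6, 7, 8, 10, 9, 11]), (11, [0, 1, 2, 3, 4, 5, 6, 7, 8, 10, 11, 9])]),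
  (1039, 11, [(11, [0, 1, 2, 3, 4, 5, 6, 7, 8, 9, 10, 11])]),
  (87, 8, [(8, [0, 1, 2, 3, 4, 5, 6, 7, 8, 9, 10, 11]), (9, [0, 1, 2, 3, 4, 5, 6, 7, 9, 8, 10, 11]), (10, [0, 1, 2, 3, 4, 5, 6, 7, 10, 11, 8, 9]), (11, [0, 1, 2, 3, 4, 5, 6, 7, 10, 11, 9, 8])]),
  (1047, 7, [(7, [0, 1, 2, 3, 4, 5, 6, 7, 8, 9, 10, 11]), (9, [0, 1, 2, 3, 4, 5, 8, 9, 6, 7, 10, 11])]),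
  (535, 11, [(11, [0, 1, 2, 3, 4, 5, 6, 7, 8, 9, 10, 11])]),
  (2119, 5, [(5, [0, 1, 2, 3, 4, 5, 6, 7, 8, 9, 10, 11])]),
  (583, 10, [(10, [0, 1, 2, 3, 4, 5, 6, 7, 8, 9, 10, 11])]),
  (551, 7, [(7, [0, 1, 2, 3, 4, 5, 6, 7, 8, 9, 10, 11])]),
  (295, 10, [(10, [0, 1, 2, 3, 4, 5, 6, 7, 8, 9, 10, 11])]),
  (391, 11, [(11, [0, 1, 2, 3, 4, 5, 6, 7, 8, 9, 10, 11])]),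
  (91, 9, [(9, [0, 1, 2, 3, 4, 5, 6, 7, 8, 9, 10, 11]), (10, [0, 1, 2, 3, 4, 5, 9, 8, 11, 10, 6, 7]), (11, [0, 1, 2, 3, 9, 8, 4, 5, 11, 10, 7, 6])]),
  (1051, 8, [(8, [0, 1, 2, 3, 4, 5, 6, 7, 8, 9, 10, 11])]),
  (155, 11, [(11, [0, 1, 2, 3, 4, 5, 6, 7, 8, 9, 10, 11])]),
  (1099, 5, [(5, [0, 1, 2, 3, 4, 5, 6, 7, 8, 9, 10, 11])]),
  (171, 8, [(8, [0, 1, 2, 3, 4, 5, 6, 7, 8, 9, 10, 11])]),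
  (555, 11, [(11, [0, 1, 2, 3, 4, 5, 6, 7, 8, 9, 10, 11])]),
  (331, 11, [(11, [0, 1, 2, 3, 4, 5, 6, 7, 8, 9, 10, 11])]),
  (651, 10, [(10, [0, 1, 2, 3, 4, 5, 6, 7, 8, 9, 10, 11])]),
  (115, 7, [(7, [0, 1, 2, 3, 4, 5, 6, 7, 8, 9, 10, 11])]),
  (1107, 11, [(11, [0, 1, 2, 3, 4, 5, 6, 7, 8, 9, 10, 11])]),
  (1075, 9, [(9, [0, 1, 2, 3, 4, 5, 6, 7, 8, 9, 10, 11])]),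
  (307, 11, [(11, [0, 1, 2, 3, 4, 5, 6, 7, 8, 9, 10, 11])]),
  (403, 9, [(9, [0, 1, 2, 3, 4, 5, 6, 7, 8, 9, 10, 11])]),
  (355, 9, [(9, [0, 1, 2, 3, 4, 5, 6, 7, 8, 9, 10, 11])]),
  (1187, 11, [(11, [0, 1, 2, 3, 4, 5, 6, 7, 8, 9, 10, 11])]),
  (451, 10, [(10, [0, 1, 2, 3, 4, 5, 6, 7, 8, 9, 10, 11])]),
  (707, 11, [(11, [0, 1, 2, 3, 4, 5, 6, 7, 8, 9, 10, 11])]),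
  (1795, 11, [(11, [0, 1, 2, 3, 4, 5, 6, 7, 8, 9, 10, 11])]),
  (93, 10, [(10, [0, 1, 2, 3, 4, 5, 6, 7, 8, 9, 10, 11]), (11, [0, 1, 2, 3, 6, 7, 4, 5, 8, 9, 11, 10])]),
  (541, 7, [(7, [0, 1, 2, 3, 4, 5, 6, 7, 8, 9, 10, 11])]),
  (285, 11, [(11, [0, 1, 2, 3, 4, 5, 6, 7, 8, 9, 10, 11])]),
  (301, 6, [(6, [0, 1, 2, 3, 4, 5, 6, 7, 8, 9, 10, 11])]),
  (557, 10, [(10, [0, 1, 2, 3, 4, 5, 6, 7, 8, 9, 10, 11])]),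
  (173, 11, [(11, [0, 1, 2, 3, 4, 5, 6, 7, 8, 9, 10, 11])]),
  (589, 11, [(11, [0, 1, 2, 3, 4, 5, 6, 7, 8, 9, 10, 11])]),
  (397, 10, [(10, [0, 1, 2, 3, 4, 5, 6, 7, 8, 9, 10, 11])]),
  (117, 9, [(9, [0, 1, 2, 3, 4, 5, 6, 7, 8, 9, 10, 11])]),
  (181, 8, [(8, [0, 1, 2, 3, 4, 5, 6, 7, 8, 9, 10, 11])]),
  (1077, 11, [(11, [0, 1, 2, 3, 4, 5, 6, 7, 8, 9, 10, 11])]),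
  (213, 11, [(11, [0, 1, 2, 3, 4, 5, 6, 7, 8, 9, 10, 11])]),
  (789, 10, [(10, [0, 1, 2, 3, 4, 5, 6, 7, 8, 9, 10, 11])]),
  (229, 10, [(10, [0, 1, 2, 3, 4, 5, 6, 7, 8, 9, 10, 11])]),
  (805, 11, [(11, [0, 1, 2, 3, 4, 5, 6, 7, 8, 9, 10, 11])]),
  (453, 9, [(9, [0, 1, 2, 3, 4, 5, 6, 7, 8, 9, 10, 11])]),
  (1349, 11, [(11, [0, 1, 2, 3, 4, 5, 6, 7, 8, 9, 10, 11])]),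
  (1669, 11, [(11, [0, 1, 2, 3, 4, 5, 6, 7, 8, 9, 10, 11])]),
  (121, 11, [(11, [0, 1, 2, 3, 4, 5, 6, 7, 8, 9, 10, 11])]),
  (185, 10, [(10, [0, 1, 2, 3, 4, 5, 6, 7, 8, 9, 10, 11])]),
  (313, 9, [(9, [0, 1, 2, 3, 4, 5, 6, 7, 8, 9, 10, 11])]),
  (217, 8, [(8, [0, 1, 2, 3, 4, 5, 6, 7, 8, 9, 10, 11])]),
  (1561, 11, [(11, [0, 1, 2, 3, 4, 5, 6, 7, 8, 9, 10, 11])]),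
  (233, 9, [(9, [0, 1, 2, 3, 4, 5, 6, 7, 8, 9, 10, 11])]),
  (1321, 11, [(11, [0, 1, 2, 3, 4, 5, 6, 7, 8, 9, 10, 11])]),
  (1225, 11, [(11, [0, 1, 2, 3, 4, 5, 6, 7, 8, 9, 10, 11])]),
  (841, 10, [(10, [0, 1, 2, 3, 4, 5, 6, 7, 8, 9, 10, 11])]),
  (905, 11, [(11, [0, 1, 2, 3, 4, 5, 6, 7, 8, 9, 10, 11])]),
  (369, 10, [(10, [0, 1, 2, 3, 4, 5, 6, 7, 8, 9, 10, 11])]),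
  (689, 11, [(11, [0, 1, 2, 3, 4, 5, 6, 7, 8, 9, 10, 11])]),
  (721, 10, [(10, [0, 1, 2, 3, 4, 5, 6, 7, 8, 9, 10, 11])]),
  (849, 11, [(11, [0, 1, 2, 3, 4, 5, 6, 7, 8, 9, 10, 11])]),
  (1425, 11, [(11, [0, 1, 2, 3, 4, 5, 6, 7, 8, 9, 10, 11])]),
  (481, 11, [(11, [0, 1, 2, 3, 4, 5, 6, 7, 8, 9, 10, 11])]),
  (1633, 11, [(11, [0, 1, 2, 3, 4, 5, 6, 7, 8, 9, 10, 11])]),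
  (929, 10, [(10, [0, 1, 2, 3, 4, 5, 6, 7, 8, 9, 10, 11])]),
  (94, 11, [(11, [0, 1, 2, 3, 4, 5, 6, 7, 8, 9, 10, 11])]),
  (158, 8, [(8, [0, 1, 2, 3, 4, 5, 6, 7, 8, 9, 10, 11])]),
  (542, 10, [(10, [0, 1, 2, 3, 4, 5, 6, 7, 8, 9, 10, 11])]),
  (110, 9, [(9, [0, 1, 2, 3, 4, 5, 6, 7, 8, 9, 10, 11])]),
  (174, 10, [(10, [0, 1, 2, 3, 4, 5, 6, 7, 8, 9, 10, 11])]),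
  (302, 11, [(11, [0, 1, 2, 3, 4, 5, 6, 7, 8, 9, 10, 11])]),
  (334, 10, [(10, [0, 1, 2, 3, 4, 5, 6, 7, 8, 9, 10, 11])]),
  (654, 11, [(11, [0, 1, 2, 3, 4, 5, 6, 7, 8, 9, 10, 11])]),
  (118, 10, [(10, [0, 1, 2, 3, 4, 5, 6, 7, 8, 9, 10, 11])]),
  (182, 11, [(11, [0, 1, 2, 3, 4, 5, 6, 7, 8, 9, 10, 11])]),
  (310, 9, [(9, [0, 1, 2, 3, 4, 5, 6, 7, 8, 9, 10, 11])]),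
  (214, 9, [(9, [0, 1, 2, 3, 4, 5, 6, 7, 8, 9, 10, 11])]),
  (1302, 11, [(11, [0, 1, 2, 3, 4, 5, 6, 7, 8, 9, 10, 11])]),
  (230, 8, [(8, [0, 1, 2, 3, 4, 5, 6, 7, 8, 9, 10, 11])]),
  (1574, 11, [(11, [0, 1, 2, 3, 4, 5, 6, 7, 8, 9, 10, 11])]),
  (1222, 11, [(11, [0, 1, 2, 3, 4, 5, 6, 7, 8, 9, 10, 11])]),
  (838, 11, [(11, [0, 1, 2, 3, 4, 5, 6, 7, 8, 9, 10, 11])]),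
  (902, 10, [(10, [0, 1, 2, 3, 4, 5, 6, 7, 8, 9, 10, 11])]),
  (122, 8, [(8, [0, 1, 2, 3, 4, 5, 6, 7, 8, 9, 10, 11])]),
  (186, 9, [(9, [0, 1, 2, 3, 4, 5, 6, 7, 8, 9, 10, 11])]),
  (1082, 11, [(11, [0, 1, 2, 3, 4, 5, 6, 7, 8, 9, 10, 11])]),
  (218, 10, [(10, [0, 1, 2, 3, 4, 5, 6, 7, 8, 9, 10, 11])]),
  (794, 11, [(11, [0, 1, 2, 3, 4, 5, 6, 7, 8, 9, 10, 11])]),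
  (234, 11, [(11, [0, 1, 2, 3, 4, 5, 6, 7, 8, 9, 10, 11])]),
  (810, 10, [(10, [0, 1, 2, 3, 4, 5, 6, 7, 8, 9, 10, 11])]),
  (458, 9, [(9, [0, 1, 2, 3, 4, 5, 6, 7, 8, 9, 10, 11])]),
  (1610, 11, [(11, [0, 1, 2, 3, 4, 5, 6, 7, 8, 9, 10, 11])]),
  (1418, 11, [(11, [0, 1, 2, 3, 4, 5, 6, 7, 8, 9, 10, 11])]),
  (626, 11, [(11, [0, 1, 2, 3, 4, 5, 6, 7, 8, 9, 10, 11])]),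
  (434, 10, [(10, [0, 1, 2, 3, 4, 5, 6, 7, 8, 9, 10, 11])]),
  (466, 11, [(11, [0, 1, 2, 3, 4, 5, 6, 7, 8, 9, 10, 11])]),
  (850, 10, [(10, [0, 1, 2, 3, 4, 5, 6, 7, 8, 9, 10, 11])]),
  (1682, 11, [(11, [0, 1, 2, 3, 4, 5, 6, 7, 8, 9, 10, 11])]),
  (738, 10, [(10, [0, 1, 2, 3, 4, 5, 6, 7, 8, 9, 10, 11])]),
  (1378, 11, [(11, [0, 1, 2, 3, 4, 5, 6, 7, 8, 9, 10, 11])]),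
  (930, 11, [(11, [0, 1, 2, 3, 4, 5, 6, 7, 8, 9, 10, 11])]),
  (124, 7, [(7, [0, 1, 2, 3, 4, 5, 6, 7, 8, 9, 10, 11])]),
  (316, 10, [(10, [0, 1, 2, 3, 4, 5, 6, 7, 8, 9, 10, 11])]),
  (572, 11, [(11, [0, 1, 2, 3, 4, 5, 6, 7, 8, 9, 10, 11])]),
  (348, 9, [(9, [0, 1, 2, 3, 4, 5, 6, 7, 8, 9, 10, 11])]),
  (1180, 11, [(11, [0, 1, 2, 3, 4, 5, 6, 7, 8, 9, 10, 11])]),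
  (1132, 11, [(11, [0, 1, 2, 3, 4, 5, 6, 7, 8, 9, 10, 11])]),
  (428, 9, [(9, [0, 1, 2, 3, 4, 5, 6, 7, 8, 9, 10, 11])]),
  (460, 11, [(11, [0, 1, 2, 3, 4, 5, 6, 7, 8, 9, 10, 11])]),
  (716, 10, [(10, [0, 1, 2, 3, 4, 5, 6, 7, 8, 9, 10, 11])]),
  (1804, 11, [(11, [0, 1, 2, 3, 4, 5, 6, 7, 8, 9, 10, 11])]),
  (372, 11, [(11, [0, 1, 2, 3, 4, 5, 6, 7, 8, 9, 10, 11])]),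
  (692, 10, [(10, [0, 1, 2, 3, 4, 5, 6, 7, 8, 9, 10, 11])]),
  (468, 10, [(10, [0, 1, 2, 3, 4, 5, 6, 7, 8, 9, 10, 11])]),
  (1620, 11, [(11, [0, 1, 2, 3, 4, 5, 6, 7, 8, 9, 10, 11])]),
  (916, 11, [(11, [0, 1, 2, 3, 4, 5, 6, 7, 8, 9, 10, 11])]),
  (740, 11, [(11, [0, 1, 2, 3, 4, 5, 6, 7, 8, 9, 10, 11])]),
  (868, 10, [(10, [0, 1, 2, 3, 4, 5, 6, 7, 8, 9, 10, 11])]),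
  (1444, 11, [(11, [0, 1, 2, 3, 4, 5, 6, 7, 8, 9, 10, 11])]),
  (632, 10, [(10, [0, 1, 2, 3, 4, 5, 6, 7, 8, 9, 10, 11])]),
  (440, 11, [(11, [0, 1, 2, 3, 4, 5, 6, 7, 8, 9, 10, 11])]),
  (728, 11, [(11, [0, 1, 2, 3, 4, 5, 6, 7, 8, 9, 10, 11])]),
  (1368, 11, [(11, [0, 1, 2, 3, 4, 5, 6, 7, 8, 9, 10, 11])]),
  (920, 10, [(10, [0, 1, 2, 3, 4, 5, 6, 7, 8, 9, 10, 11])]),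
  (488, 10, [(10, [0, 1, 2, 3, 4, 5, 6, 7, 8, 9, 10, 11])]),
  (872, 11, [(11, [0, 1, 2, 3, 4, 5, 6, 7, 8, 9, 10, 11])]),
  (1704, 11, [(11, [0, 1, 2, 3, 4, 5, 6, 7, 8, 9, 10, 11])]),
  (496, 9, [(9, [0, 1, 2, 3, 4, 5, 6, 7, 8, 9, 10, 11])]),
  (1264, 11, [(11, [0, 1, 2, 3, 4, 5, 6, 7, 8, 9, 10, 11])]),
  (1840, 11, [(11, [0, 1, 2, 3, 4, 5, 6, 7, 8, 9, 10, 11])]),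
  (1984, 11, [(11, [0, 1, 2, 3, 4, 5, 6, 7, 8, 9, 10, 11])])]

/-- Automorphisms fixing an initial segment and moving a point to the next place. -/
def moves12 : List (List (List ℕ)) := [
  [[0, 1, 2, 3, 4, 5, 6, 7, 8, 9, 10, 11], [1, 0, 2, 3, 4, 5, 7, 6, 10, 11, 8, 9], [1, 2, 0, 3, 4, 5, 9, 8, 11, 10, 6, 7], [1, 2, 3, 0, 4, 5, 8, 9, 7, 6, 10, 11], [1, 2, 3, 4, 0, 5, 11, 6, 10, 9, 7, 8], [1, 2, 3, 4, 5, 0, 6, 11, 9, 10, 8, 7], [1, 2, 3, 4, 6, 11, 0, 5, 7, 8, 9, 10], [1, 2, 3, 4, 11, 6, 5, 0, 8, 7, 10, 9], [1, 2, 3, 4, 9, 10, 8, 7, 0, 5, 11, 6], [1, 2, 3, 4, 10, 9, 7, 8, 5, 0, 6, 11], [1, 2, 3, 4, 8, 7, 10, 9, 6, 11, 0, 5], [1, 2, 3, 4, 7, 8, 9, 10, 11, 6, 5, 0]],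
  [[0, 1, 2, 3, 4, 5, 6, 7, 8, 9, 10, 11], [0, 2, 1, 3, 4, 5, 11, 10, 9, 8, 7, 6], [0, 2, 3, 1, 4, 5, 10, 11, 6, 7, 8, 9], [0, 2, 3, 4, 1, 5, 9, 7, 8, 11, 6, 10], [0, 2, 3, 4, 5, 1, 7, 9, 11, 8, 10, 6], [0, 2, 3, 4, 7, 9, 1, 5, 6, 10, 11, 8], [0, 2, 3, 4, 9, 7, 5, 1, 10, 6, 8, 11], [0, 2, 3, 4, 11, 8, 10, 6, 1, 5, 9, 7], [0, 2, 3, 4, 8, 11, 6, 10, 5, 1, 7, 9], [0, 2, 3, 4, 10, 6, 8, 11, 7, 9, 1, 5], [0, 2, 3, 4, 6, 10, 11, 8, 9, 7, 5, 1]],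
  [[0, 1, 2, 3, 4, 5, 6, 7, 8, 9, 10, 11], [0, 1, 3, 2, 4, 5, 7, 6, 11, 10, 9, 8], [0, 1, 3, 4, 2, 5, 8, 10, 9, 6, 11, 7], [0, 1, 3, 4, 5, 2, 10, 8, 6, 9, 7, 11], [0, 1, 3, 4, 10, 8, 2, 5, 11, 7, 6, 9], [0, 1, 3, 4, 8, 10, 5, 2, 7, 11, 9, 6], [0, 1, 3, 4, 6, 9, 7, 11, 2, 5, 8, 10], [0, 1, 3, 4, 9, 6, 11, 7, 5, 2, 10, 8], [0, 1, 3, 4, 7, 11, 9, 6, 10, 8, 2, 5], [0, 1, 3, 4, 11, 7, 6, 9, 8, 10, 5, 2]],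
  [[0, 1, 2, 3, 4, 5, 6, 7, 8, 9, 10, 11], [0, 1, 2, 4, 3, 5, 11, 9, 10, 7, 8, 6], [0, 1, 2, 4, 5, 3, 9, 11, 7, 10, 6, 8], [0, 1, 2, 4, 9, 11, 3, 5, 8, 6, 7, 10], [0, 1, 2, 4, 11, 9, 5, 3, 6, 8, 10, 7], [0, 1, 2, 4, 7, 10, 6, 8, 3, 5, 11, 9], [0, 1, 2, 4, 10, 7, 8, 6, 5, 3, 9, 11], [0, 1, 2, 4, 6, 8, 10, 7, 9, 11, 3, 5], [0, 1, 2, 4, 8, 6, 7, 10, 11, 9, 5, 3]],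
  [[0, 1, 2, 3, 4, 5, 6, 7, 8, 9, 10, 11], [0, 1, 2, 3, 5, 4, 7, 6, 9, 8, 11, 10], [0, 1, 2, 3, 7, 6, 4, 5, 10, 11, 9, 8], [0, 1, 2, 3, 6, 7, 5, 4, 11, 10, 8, 9], [0, 1, 2, 3, 9, 8, 11, 10, 4, 5, 6, 7], [0, 1, 2, 3, 8, 9, 10, 11, 5, 4, 7, 6], [0, 1, 2, 3, 11, 10, 8, 9, 7, 6, 4, 5], [0, 1, 2, 3, 10, 11, 9, 8, 6, 7, 5, 4]]]

end Cfsg.Lib.SteinerChain
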